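import Groth.Agent.SekTorsor.Main
import Groth.Agent.Torsor.Pushforward
import Groth.Prelude.Def_NonAbH2

/-!
Triviality of torsors under `G^(λ)` when units lift along `X_λ → X` and multiplicative torsors are trivial.
-/

set_option autoImplicit false
set_option linter.style.haveILetI false
set_option synthInstance.maxHeartbeats 400000
set_option maxHeartbeats 800000

universe u

noncomputable section

open CategoryTheory Limits MonoidalCategory CartesianMonoidalCategory MonObj AlgebraicGeometry WithConv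
open scoped TensorProduct
open TopologicalSpace (IsOpenCover)

namespace Groth.Agent.SekTriv

open Groth.Agent.GmTorsorZar (tr tr_comp tr_one tr_mul existsUnique_tr)
open Groth.Agent.SekTorsor (fn fn_comp fn_SpecMap fn_toSpecΓ fn_ext scal scal_comp bfn bfn_comp bfn_one bfn_ext
  isUnit_bfn exists_bfn)

variable {R : Type u} [CommRing R] {X : Scheme.{u}} {f : X ⟶ Spec (CommRingCat.of R)}

section Glue

variable {Y W : Over X}

/-- Points glue along open covers. -/
theorem exists_glue {J : Type u} (V : J → W.left.Opens) (hV : ∀ w : W.left, ∃ i, w ∈ V i)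
    (x : ∀ i, Over.mk ((V i).ι ≫ W.hom) ⟶ Y)
    (hx : ∀ (i j : J) (Z : Over X) (p : Z ⟶ Over.mk ((V i).ι ≫ W.hom)) (q : Z ⟶ Over.mk ((V j).ι ≫ W.hom)),
      p.left ≫ (V i).ι = q.left ≫ (V j).ι → p ≫ x i = q ≫ x j) :
    ∃ g : W ⟶ Y, ∀ i, (Over.homMk (V i).ι rfl : Over.mk ((V i).ι ≫ W.hom) ⟶ W) ≫ g = x i := by
  have hcov : IsOpenCover V := by
    rw [IsOpenCover, eq_top_iff]
    intro w _
    obtain ⟨i, hi⟩ := hV w
    exact TopologicalSpace.Opens.mem_iSup.2 ⟨i, hi⟩
  let C := W.left.openCoverOfIsOpenCover V hcov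
  have hglue : ∀ i j : C.I₀, pullback.fst (C.f i) (C.f j) ≫ (x i).left = pullback.snd _ _ ≫ (x j).left := by
    intro i j
    let Z : Over X := Over.mk (pullback.fst (C.f i) (C.f j) ≫ (V i).ι ≫ W.hom)
    let p : Z ⟶ Over.mk ((V i).ι ≫ W.hom) := Over.homMk (pullback.fst (C.f i) (C.f j)) rfl
    let q : Z ⟶ Over.mk ((V j).ι ≫ W.hom) := Over.homMk (pullback.snd (C.f i) (C.f j)) (by
      show pullback.snd (C.f i) (C.f j) ≫ (C.f j ≫ W.hom) = pullback.fst (C.f i) (C.f j) ≫ (C.f i ≫ W.hom)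
      rw [pullback.condition_assoc])
    exact congrArg CommaMorphism.left (hx i j Z p q pullback.condition)
  refine ⟨Over.homMk (C.glueMorphisms (fun i => (x i).left) hglue) ?_, fun i => ?_⟩
  · refine C.hom_ext _ _ fun i => ?_
    rw [Scheme.Cover.ι_glueMorphisms_assoc]
    exact Over.w (x i)
  · apply Over.OverMorphism.ext
    exact C.ι_glueMorphisms (fun i => (x i).left) hglue i

end Glue

theorem pt_one_mul {C : Type*} [Category C] [CartesianMonoidalCategory C] {A G : C} [GrpObj G] (g : A ⟶ G) :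
    1 * g = g :=
  _root_.one_mul g

theorem pt_mul_one {C : Type*} [Category C] [CartesianMonoidalCategory C] {A G : C} [GrpObj G] (g : A ⟶ G) :
    g * 1 = g :=
  _root_.mul_one g

section Gm

variable {W W' : Over X}

/-- the generator of the character group -/
def gen : MonoidAlgebra R (Multiplicative ℤ) := MonoidAlgebra.single (Multiplicative.ofAdd (1 : ℤ)) 1

/-- the coordinate of a point of the multiplicative group -/
def dfn (x : W ⟶ Red.bc f (Red.diag R ℤ)) : Γ(W.left, ⊤) :=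
  fn (A := MonoidAlgebra R (Multiplicative ℤ)) (x.left ≫ pullback.fst _ _) gen

theorem dfn_comp (p : W' ⟶ W) (x : W ⟶ Red.bc f (Red.diag R ℤ)) : dfn (p ≫ x) = p.left.appTop (dfn x) := by
  rw [dfn, Over.comp_left, Category.assoc, fn_comp]
  rfl

theorem fn_algebraMap (x : W ⟶ Red.bc f (Red.diag R ℤ)) (r : R) :
    fn (A := MonoidAlgebra R (Multiplicative ℤ)) (x.left ≫ pullback.fst _ _) (algebraMap R _ r) = scal f W r := by
  have e : (x.left ≫ pullback.fst (Red.diag R ℤ).hom f) ≫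
      Spec.map (CommRingCat.ofHom (algebraMap R (MonoidAlgebra R (Multiplicative ℤ)))) = W.hom ≫ f := by
    rw [Category.assoc, ← Over.w x]
    show x.left ≫ pullback.fst _ _ ≫ (Red.diag R ℤ).hom = _
    rw [pullback.condition]
    exact (Category.assoc _ _ _).symm
  refine Eq.trans ?_ (congrArg (fun g => fn g r) e)
  exact (RingHom.congr_fun (fn_SpecMap (algebraMap R (MonoidAlgebra R (Multiplicative ℤ)))
    (x.left ≫ pullback.fst _ _)) r).symm

theorem isUnit_dfn (x : W ⟶ Red.bc f (Red.diag R ℤ)) : IsUnit (dfn x) :=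
  ((Group.isUnit (Multiplicative.ofAdd (1 : ℤ))).map (MonoidAlgebra.of R (Multiplicative ℤ))).map _

theorem dfn_ext {x y : W ⟶ Red.bc f (Red.diag R ℤ)} (h : dfn x = dfn y) : x = y := by
  apply Over.OverMorphism.ext
  refine pullback.hom_ext (fn_ext ?_) ((Over.w x).trans (Over.w y).symm)
  refine MonoidAlgebra.ringHom_ext (fun r => ?_) (fun m => ?_)
  · exact (fn_algebraMap x r).trans (fn_algebraMap y r).symm
  · let φ (z : W ⟶ Red.bc f (Red.diag R ℤ)) : Multiplicative ℤ →* Γ(W.left, ⊤)ˣ :=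
      (((fn (A := MonoidAlgebra R (Multiplicative ℤ)) (z.left ≫ pullback.fst _ _)).toMonoidHom).comp
        (MonoidAlgebra.of R (Multiplicative ℤ))).toHomUnits
    have : φ x = φ y := MonoidHom.ext_mint (Units.ext h)
    exact congrArg Units.val (DFunLike.congr_fun this m)

theorem exists_dfn (c : Γ(W.left, ⊤)ˣ) : ∃ x : W ⟶ Red.bc f (Red.diag R ℤ), dfn x = c := by
  letI : Algebra R Γ(W.left, ⊤) := (scal f W).toAlgebra
  let φ : MonoidAlgebra R (Multiplicative ℤ) →ₐ[R] Γ(W.left, ⊤) :=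
    MonoidAlgebra.lift R Γ(W.left, ⊤) (Multiplicative ℤ) ((Units.coeHom _).comp (zpowersHom _ c))
  refine ⟨Over.homMk (pullback.lift (W.left.toSpecΓ ≫ Spec.map (CommRingCat.ofHom φ.toRingHom)) W.hom
    ?_) (pullback.lift_snd _ _ _), ?_⟩
  · apply fn_ext
    show fn ((W.left.toSpecΓ ≫ Spec.map (CommRingCat.ofHom φ.toRingHom)) ≫
      Spec.map (CommRingCat.ofHom (algebraMap R (MonoidAlgebra R (Multiplicative ℤ))))) = fn (W.hom ≫ f)
    rw [fn_SpecMap, fn_toSpecΓ]
    exact RingHom.ext φ.commutes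
  · refine Eq.trans (congrArg (fun g : W.left ⟶ Spec (CommRingCat.of (MonoidAlgebra R (Multiplicative ℤ))) => fn g gen)
      (pullback.lift_fst _ _ _)) ?_
    refine (RingHom.congr_fun (fn_toSpecΓ φ.toRingHom) _).trans ?_
    show φ gen = _
    simp [φ, gen, MonoidAlgebra.lift_single]

/-- the coordinate over the base ring -/
def rdfn {T : Over (Spec (CommRingCat.of R))} (x : T ⟶ Red.diag R ℤ) : Γ(T.left, ⊤) :=
  fn (A := MonoidAlgebra R (Multiplicative ℤ)) x.left gen

theorem rdfn_mul_spec {C : Type u} [CommRing C] [Algebra R C]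
    (x y : (Spec (CommRingCat.of C)).asOver (Spec (CommRingCat.of R)) ⟶ Red.diag R ℤ) :
    rdfn (x * y) = rdfn x * rdfn y := by
  obtain ⟨φ, rfl⟩ := (Spec.mapMulEquiv (R := R) (S := MonoidAlgebra R (Multiplicative ℤ)) (T := C)).surjective x
  obtain ⟨ψ, rfl⟩ := (Spec.mapMulEquiv (R := R) (S := MonoidAlgebra R (Multiplicative ℤ)) (T := C)).surjective y
  rw [← map_mul]
  have e : ∀ χ : WithConv (MonoidAlgebra R (Multiplicative ℤ) →ₐ[R] C),
      rdfn (Spec.mapMulEquiv (R := R) χ) = (Scheme.ΓSpecIso (CommRingCat.of C)).inv (χ.ofConv gen) := fun χ => by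
    change fn (Spec.map (CommRingCat.ofHom χ.ofConv.toRingHom)) _ = _
    rw [fn, ← Scheme.ΓSpecIso_inv_naturality]
    rfl
  rw [e, e, e, AlgHom.convMul_apply]
  simp [gen]
  rfl

theorem rdfn_mul {T : Over (Spec (CommRingCat.of R))} (x y : T ⟶ Red.diag R ℤ) :
    rdfn (x * y) = rdfn x * rdfn y := by
  letI : Algebra R Γ(T.left, ⊤) := (fn (A := R) T.hom).toAlgebra
  let T' := (Spec (CommRingCat.of Γ(T.left, ⊤))).asOver (Spec (CommRingCat.of R))
  let m : T ⟶ T' := Over.homMk T.left.toSpecΓ (fn_ext (fn_toSpecΓ (fn (A := R) T.hom)))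
  have h : ∀ z : T ⟶ Red.diag R ℤ, ∃ z' : T' ⟶ Red.diag R ℤ, m ≫ z' = z := fun z => by
    have hz : (fn (A := MonoidAlgebra R (Multiplicative ℤ)) z.left).comp (algebraMap R _) = fn (A := R) T.hom := by
      rw [← fn_SpecMap]
      exact congrArg fn (Over.w z)
    refine ⟨Over.homMk (Spec.map (CommRingCat.ofHom (fn (A := MonoidAlgebra R (Multiplicative ℤ)) z.left))) ?_, ?_⟩
    · change Spec.map _ ≫ Spec.map (CommRingCat.ofHom (algebraMap R (MonoidAlgebra R (Multiplicative ℤ)))) =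
        Spec.map (CommRingCat.ofHom (algebraMap R Γ(T.left, ⊤)))
      rw [← Spec.map_comp, ← CommRingCat.ofHom_comp, hz]
    · apply Over.OverMorphism.ext
      exact fn_ext (fn_toSpecΓ (fn (A := MonoidAlgebra R (Multiplicative ℤ)) z.left))
  obtain ⟨x', rfl⟩ := h x
  obtain ⟨y', rfl⟩ := h y
  have hc : ∀ z : T' ⟶ Red.diag R ℤ, rdfn (m ≫ z) = m.left.appTop (rdfn z) := fun z => rfl
  rw [← MonObj.comp_mul, hc, hc, hc, rdfn_mul_spec, map_mul]

theorem dfn_eq_rdfn (x : W ⟶ Red.bc f (Red.diag R ℤ)) :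
    dfn x = rdfn (((Over.mapPullbackAdj f).homEquiv _ _).symm x) := by
  rw [rdfn, Adjunction.homEquiv_counit]
  simp [Over.mapPullbackAdj, dfn]
  rfl

theorem dfn_mul (x y : W ⟶ Red.bc f (Red.diag R ℤ)) : dfn (x * y) = dfn x * dfn y := by
  have e : ((Over.mapPullbackAdj f).homEquiv _ _).symm (x * y) =
      ((Over.mapPullbackAdj f).homEquiv _ _).symm x * ((Over.mapPullbackAdj f).homEquiv _ _).symm y := by
    apply ((Over.mapPullbackAdj f).homEquiv _ _).injective
    rw [Equiv.apply_symm_apply, Adjunction.homEquiv_unit, Functor.map_mul, MonObj.comp_mul,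
      ← Adjunction.homEquiv_unit, ← Adjunction.homEquiv_unit, Equiv.apply_symm_apply, Equiv.apply_symm_apply]
  rw [dfn_eq_rdfn, dfn_eq_rdfn, dfn_eq_rdfn, e, rdfn_mul]

theorem dfn_one : dfn (1 : W ⟶ Red.bc f (Red.diag R ℤ)) = 1 := by
  have h := dfn_mul (1 : W ⟶ Red.bc f (Red.diag R ℤ)) 1
  rw [pt_one_mul] at h
  exact (isUnit_dfn _).mul_left_cancel (h.symm.trans (_root_.mul_one _).symm)

variable {lam : R}

/-- the homomorphism to the multiplicative group -/
abbrev alphaX (f : X ⟶ Spec (CommRingCat.of R)) (lam : R) :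
    Red.bc f (SekSuwa.G R lam) ⟶ Red.bc f (Red.diag R ℤ) :=
  (Over.pullback f).map (SekSuwa.alpha R lam)

theorem dfn_alpha (g : W ⟶ Red.bc f (SekSuwa.G R lam)) :
    dfn (g ≫ alphaX f lam) = 1 + scal f W lam * bfn g := by
  have e : (g ≫ alphaX f lam).left ≫ pullback.fst _ _ =
      (g.left ≫ pullback.fst _ _) ≫ Spec.map (CommRingCat.ofHom
        (SekSuwa.alphaHom R lam : MonoidAlgebra R (Multiplicative ℤ) →+* SekSuwa.A R lam)) := by
    rw [Over.comp_left, Category.assoc, Category.assoc]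
    congr 1
    exact pullback.lift_fst _ _ _
  refine ((congrArg (fun h : W.left ⟶ Spec (CommRingCat.of (MonoidAlgebra R (Multiplicative ℤ))) => fn h gen) e).trans
    (RingHom.congr_fun (fn_SpecMap _ (g.left ≫ pullback.fst _ _)) gen)).trans ?_
  show fn (A := SekSuwa.A R lam) (g.left ≫ pullback.fst _ _) (SekSuwa.alphaHom R lam gen) = _
  rw [gen, SekSuwa.alphaHom_single_one, SekSuwa.A.u_def, map_add, map_one, map_mul, SekTorsor.fn_algebraMap]
  rfl

end Gm

/-- Functions on affine schemes vanishing where `λ` does are multiples of `λ`. -/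
theorem exists_mul_of_restrict {lam : R} {T : Scheme.{u}} [IsAffine T] (g : T ⟶ Spec (CommRingCat.of R))
    (z : Γ(T, ⊤)) (hz : ∀ (Z : Scheme.{u}) (p : Z ⟶ T), fn (p ≫ g) lam = 0 → p.appTop z = 0) :
    ∃ b, z = fn g lam * b := by
  let q : Γ(T, ⊤) →+* Γ(T, ⊤) ⧸ Ideal.span {fn g lam} := Ideal.Quotient.mk _
  let p := Spec.map (CommRingCat.ofHom q) ≫ T.isoSpec.inv
  have hp : p ≫ T.toSpecΓ = Spec.map (CommRingCat.ofHom q) := by
    show (_ ≫ T.isoSpec.inv) ≫ T.isoSpec.hom = _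
    rw [Category.assoc, Iso.inv_hom_id, Category.comp_id]
  have key : ∀ c : Γ(T, ⊤), p.appTop c = (Scheme.ΓSpecIso _).inv (q c) := by
    intro c
    have h1 : fn (A := Γ(T, ⊤)) T.toSpecΓ = RingHom.id _ := by
      have := fn_toSpecΓ (T := T) (RingHom.id Γ(T, ⊤))
      rw [show Spec.map (CommRingCat.ofHom (RingHom.id Γ(T, ⊤))) = 𝟙 _ from Spec.map_id _] at this
      exact (congrArg fn (Category.comp_id T.toSpecΓ)).symm.trans this
    have h2 := fn_comp p (T.toSpecΓ) c
    rw [h1, hp] at h2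
    refine h2.symm.trans ?_
    change ((Scheme.ΓSpecIso Γ(T, ⊤)).inv ≫ (Spec.map (CommRingCat.ofHom q)).appTop) c = _
    rw [← Scheme.ΓSpecIso_inv_naturality]
    rfl
  have hinj := (Scheme.ΓSpecIso (CommRingCat.of (Γ(T, ⊤) ⧸ Ideal.span {fn g lam}))).symm.commRingCatIsoToRingEquiv.injective
  have h0 := hz _ p (by
    rw [fn_comp, key, Ideal.Quotient.eq_zero_iff_mem.2 (Ideal.mem_span_singleton_self _), map_zero])
  rw [key] at h0
  have hqz : q z = 0 := hinj (h0.trans (map_zero _).symm)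
  obtain ⟨b, hb⟩ := Ideal.mem_span_singleton'.1 (Ideal.Quotient.eq_zero_iff_mem.1 hqz)
  exact ⟨b, by rw [← hb, mul_comm]⟩

/-- `λ` is regular on functions of schemes flat over a domain. -/
theorem eq_zero_of_mul [IsDomain R] {lam : R} (hlam : lam ≠ 0) {T : Scheme.{u}}
    (g : T ⟶ Spec (CommRingCat.of R)) [Flat g] (b : Γ(T, ⊤)) (h : fn g lam * b = 0) : b = 0 := by
  refine (TopCat.Sheaf.eq_of_locally_eq' T.sheaf (fun U : T.affineOpens => U.1) ⊤ (fun U => homOfLE le_top) ?_ b 0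
    fun U => ?_)
  · rw [iSup_affineOpens_eq_top]
  show T.presheaf.map (homOfLE le_top).op b = T.presheaf.map (homOfLE le_top).op 0
  rw [map_zero]
  let φ := g.appLE ⊤ U.1 le_top
  have hφ : φ.hom.Flat := g.flat_appLE (isAffineOpen_top _) U.2 le_top
  let ψ : R →+* Γ(T, U.1) := φ.hom.comp (Scheme.ΓSpecIso (CommRingCat.of R)).inv.hom
  have hψf : ψ.Flat := RingHom.Flat.comp
    (RingHom.Flat.of_bijective (Scheme.ΓSpecIso (CommRingCat.of R)).symm.commRingCatIsoToRingEquiv.bijective) hφ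
  letI : Algebra R Γ(T, U.1) := ψ.toAlgebra
  haveI : Module.Flat R Γ(T, U.1) := hψf
  have e : ψ lam = T.presheaf.map (homOfLE le_top).op (fn g lam) := rfl
  refine (Module.Flat.isSMulRegular_of_nonZeroDivisors (M := Γ(T, U.1)) (mem_nonZeroDivisors_of_ne_zero hlam)) ?_
  show ψ lam * _ = ψ lam * 0
  rw [mul_zero, e, ← map_mul, h, map_zero]

theorem eq_comp_homOfLE {I V : X.Opens} (h : I ≤ V) {Z : Scheme.{u}} (m : Z ⟶ I.toScheme) (p : Z ⟶ V.toScheme)
    (e : m ≫ I.ι = p ≫ V.ι) : p = m ≫ X.homOfLE h := by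
  rw [← cancel_mono V.ι, Category.assoc, Scheme.homOfLE_ι, e]

section Main

variable [IsDomain R] {lam : R} [Flat f]

theorem hasSection (hlam : lam ≠ 0)
    (hunit : Function.Surjective (Units.map
      (Limits.pullback.fst f (Spec.map (CommRingCat.ofHom (Ideal.Quotient.mk (Ideal.span ({lam} : Set R)))))).appTop.hom.toMonoidHom))
    (hpic : ∀ (Q : Over X) (b : AlgGrp.Action (Red.bc f (Red.diag R ℤ)) Q),
      NonAbH1.IsTorsorFor Scheme.fppfPrecoverage b → NonAbH1.HasSectionOver Q (𝟙 X))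
    (P : Over X) (a : AlgGrp.Action (Red.bc f (SekSuwa.G R lam)) P)
    (hP : NonAbH1.IsTorsorFor Scheme.fppfPrecoverage a) :
    NonAbH1.HasSectionOver P (𝟙 X) := by
  obtain ⟨hps, C, hC, hsC⟩ := hP
  have hfpqc : NonAbH1.IsTorsorFor Scheme.fpqcPrecoverage a :=
    ⟨hps, C, Scheme.fppfPrecoverage_le_fpqcPrecoverage _ hC, hsC⟩
  -- push forward to the multiplicative group
  haveI := SekTorsor.isAffineHom_bc (lam := lam) f
  haveI : IsAffineHom (Red.bc f (Red.diag R ℤ)).hom := by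
    haveI : IsAffineHom (Red.diag R ℤ).hom := by
      haveI : IsAffine (Red.diag R ℤ).left := inferInstanceAs (IsAffine (Spec _))
      exact isAffineHom_of_isAffine _
    show IsAffineHom (pullback.snd _ _)
    exact MorphismProperty.pullback_snd _ _ inferInstance
  obtain ⟨Q, aQ, hQ, φ, hφ⟩ := Torsor.Push.exists_pushforward (a := a) (alphaX f lam) hfpqc
  have hQ' : NonAbH1.IsTorsorFor Scheme.fppfPrecoverage aQ :=
    ⟨hQ.1, C, hC, fun S' j hj => by
      obtain ⟨s, hs⟩ := hsC j hj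
      exact ⟨s ≫ φ.left, by rw [Category.assoc, Over.w φ]; exact hs⟩⟩
  obtain ⟨y₀, hy₀⟩ := hpic Q aQ hQ'
  let one : Over X := Over.mk (𝟙 X)
  let toOne (Z : Over X) : Z ⟶ one := Over.homMk Z.hom (Category.comp_id _)
  let y : one ⟶ Q := Over.homMk y₀ hy₀
  have hmor : ∀ {Z : Over X} (g : Z ⟶ Red.bc f (SekSuwa.G R lam)) (x : Z ⟶ P),
      tr a g x ≫ φ = tr aQ (g ≫ alphaX f lam) (x ≫ φ) := fun g x => by
    show (lift g x ≫ a.act) ≫ φ = lift (g ≫ alphaX f lam) (x ≫ φ) ≫ aQ.act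
    rw [Category.assoc, hφ, ← Category.assoc, comp_lift, lift_fst_assoc, lift_snd_assoc]
  -- local sections over affine opens
  haveI := SekTorsor.flat_bc (lam := lam) f
  obtain ⟨_, _⟩ := S6004.result (Red.bc f (SekSuwa.G R lam)) P a hfpqc
  haveI : Surjective P.hom := ⟨fun s => by
    obtain ⟨_, g, hg, ⟨z, rfl⟩⟩ := (Presieve.mem_comap_jointlySurjectivePrecoverage_iff Scheme.forget).1
      (Scheme.fppfPrecoverage_le_fpqcPrecoverage _ hC).2.1 s
    obtain ⟨t, rfl⟩ := hsC g hg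
    exact ⟨t z, (Scheme.Hom.comp_apply _ _ _).symm⟩⟩
  have hloc : ∀ s : X, ∃ V : X.Opens, s ∈ V ∧ IsAffineOpen V ∧ Nonempty (Over.mk (V.ι ≫ one.hom) ⟶ P) := fun (s : X) => by
    obtain ⟨D, j, hj, hsj, x, hx⟩ := SekTorsor.exists_local_section a hps s
    obtain ⟨_, ⟨V, hV, rfl⟩, hsV, hVj⟩ := X.isBasis_affineOpens.exists_subset_of_mem_open
      (show s ∈ (j.opensRange : Set X) from hsj) j.opensRange.2
    have hr : Set.range (Scheme.Opens.ι V) ⊆ Set.range j := by rw [Scheme.Opens.range_ι]; exact hVj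
    refine ⟨V, hsV, hV, ⟨Over.homMk (IsOpenImmersion.lift j (Scheme.Opens.ι V) hr ≫ x) (by
      show (_ ≫ x) ≫ P.hom = Scheme.Opens.ι V ≫ 𝟙 X
      rw [Category.assoc, hx, IsOpenImmersion.lift_fac, Category.comp_id])⟩⟩
  choose V hsV hV hxne using hloc
  let W (s : X) : Over X := Over.mk ((V s).ι ≫ one.hom)
  let x (s : X) : W s ⟶ P := (hxne s).some
  choose h hh using fun s => (existsUnique_tr aQ hQ.1 (x s ≫ φ) (toOne (W s) ≫ y)).exists
  have hone : ∀ {Z : Over X} (k l : Z ⟶ one), k = l := fun k l =>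
    Over.OverMorphism.ext (by
      have h1 := Over.w k
      have h2 := Over.w l
      simp only [one, Over.mk_hom, Category.comp_id] at h1 h2
      exact h1.trans h2.symm)
  have hK : ∀ (s t : X) (Z : Over X) (p : Z ⟶ W s) (q : Z ⟶ W t),
      ∃ g : Z ⟶ Red.bc f (SekSuwa.G R lam), p ≫ h s = q ≫ h t * (g ≫ alphaX f lam) := fun s t Z p q => by
    obtain ⟨g, hg, -⟩ := existsUnique_tr a hps (p ≫ x s) (q ≫ x t)
    refine ⟨g, (existsUnique_tr aQ hQ.1 (p ≫ x s ≫ φ) (toOne Z ≫ y)).unique ?_ ?_⟩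
    · rw [← tr_comp, hh, ← Category.assoc, hone (p ≫ toOne (W s)) (toOne Z)]
    · rw [tr_mul, ← Category.assoc p, ← hmor, hg, Category.assoc, ← tr_comp, hh, ← Category.assoc,
        hone (q ≫ toOne (W t)) (toOne Z)]
  -- glue on X_λ and lift the unit
  let mkl := Spec.map (CommRingCat.ofHom (Ideal.Quotient.mk (Ideal.span ({lam} : Set R))))
  let Xl : Over X := Over.mk (pullback.fst f mkl)
  have hXl : scal f Xl lam = 0 := by
    show fn (pullback.fst f mkl ≫ f) lam = 0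
    rw [pullback.condition, fn_SpecMap]
    show fn _ (Ideal.Quotient.mk _ lam) = 0
    rw [Ideal.Quotient.eq_zero_iff_mem.2 (Ideal.mem_span_singleton_self lam), map_zero]
  let Vl (s : X) : Xl.left.Opens := (pullback.fst f mkl) ⁻¹ᵁ (V s)
  let r (s : X) : Over.mk ((Vl s).ι ≫ Xl.hom) ⟶ W s :=
    Over.homMk ((pullback.fst f mkl) ∣_ (V s)) (by
      show _ ≫ (V s).ι ≫ 𝟙 X = (Vl s).ι ≫ pullback.fst f mkl
      rw [Category.comp_id, morphismRestrict_ι])
  have hkill : ∀ (s t : X) (Z : Over X), scal f Z lam = 0 → ∀ (p : Z ⟶ W s) (q : Z ⟶ W t),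
      p ≫ h s = q ≫ h t := fun s t Z hZ p q => by
    obtain ⟨g, hg⟩ := hK s t Z p q
    rw [hg]
    have : g ≫ alphaX f lam = 1 := dfn_ext (by rw [dfn_alpha, hZ, zero_mul, add_zero, dfn_one])
    rw [this, pt_mul_one]
  obtain ⟨E, hE⟩ := exists_glue (W := Xl) Vl (fun w => ⟨pullback.fst f mkl w, hsV _⟩) (fun s => r s ≫ h s)
    fun s t Z p q _ => by
      rw [← Category.assoc, ← Category.assoc]
      refine hkill s t Z ?_ _ _
      let m : Z ⟶ Xl := p ≫ (Over.homMk (Vl s).ι rfl)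
      rw [← scal_comp m, hXl, map_zero]
  obtain ⟨c, hc⟩ := hunit (isUnit_dfn E).unit⁻¹
  obtain ⟨Cc, hCc⟩ := exists_dfn (f := f) (W := one) c
  -- the corrected section of the pushforward
  let y' : one ⟶ Q := tr aQ Cc y
  let h' (s : X) : W s ⟶ Red.bc f (Red.diag R ℤ) := (toOne (W s) ≫ Cc) * h s
  have hCE : (toOne Xl ≫ Cc) * E = 1 := dfn_ext (by
    rw [dfn_mul, dfn_one, dfn_comp, hCc]
    have := congrArg Units.val hc
    change @HMul.hMul Γ(Xl.left, ⊤) Γ(Xl.left, ⊤) Γ(Xl.left, ⊤) _ ((pullback.fst f mkl).appTop (c : Γ(X, ⊤))) (dfn E) = 1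
    have h2 : ((isUnit_dfn E).unit⁻¹ : Γ(Xl.left, ⊤)ˣ).1 * dfn E = 1 := (isUnit_dfn E).val_inv_mul
    exact (congrArg (fun z : Γ(Xl.left, ⊤) => z * dfn E) this).trans h2)
  have hb : ∀ s : X, ∃ g : W s ⟶ Red.bc f (SekSuwa.G R lam), g ≫ alphaX f lam = h' s := fun s => by
    haveI : IsAffine (W s).left := hV s
    obtain ⟨b, hb⟩ := exists_mul_of_restrict (lam := lam) ((W s).hom ≫ f) (dfn (h' s) - 1) fun Z p hp => by
      let Z' : Over X := Over.mk (p ≫ (W s).hom)
      let p' : Z' ⟶ W s := Over.homMk p rfl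
      have hZl : scal f Z' lam = 0 := by
        show fn ((p ≫ (W s).hom) ≫ f) lam = 0
        rw [Category.assoc]
        exact hp
      obtain ⟨l, hl⟩ : ∃ l : Z ⟶ Spec (CommRingCat.of (R ⧸ Ideal.span ({lam} : Set R))),
          (p ≫ (W s).hom) ≫ f = l ≫ mkl := by
        refine ⟨Z.toSpecΓ ≫ Spec.map (CommRingCat.ofHom
          (Ideal.Quotient.lift (Ideal.span {lam}) (fn ((p ≫ (W s).hom) ≫ f)) fun a ha => ?_)), fn_ext ?_⟩
        · obtain ⟨c, rfl⟩ := Ideal.mem_span_singleton'.1 ha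
          rw [map_mul, show fn ((p ≫ (W s).hom) ≫ f) lam = 0 from hZl, mul_zero]
        · rw [fn_SpecMap, fn_toSpecΓ]
          exact RingHom.ext fun a => rfl
      let π : Z' ⟶ Xl := Over.homMk (pullback.lift (p ≫ (W s).hom) l hl) (pullback.lift_fst _ _ _)
      have hrange : Set.range π.left ⊆ Set.range (Vl s).ι := by
        rintro _ ⟨z, rfl⟩
        rw [Scheme.Opens.range_ι]
        show pullback.fst f mkl (π.left z) ∈ V s
        rw [← Scheme.Hom.comp_apply, show π.left ≫ pullback.fst f mkl = p ≫ (V s).ι ≫ 𝟙 X from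
          pullback.lift_fst _ _ _, Category.comp_id, Scheme.Hom.comp_apply]
        exact (p z).2
      let π' : Z' ⟶ Over.mk ((Vl s).ι ≫ Xl.hom) := Over.homMk (IsOpenImmersion.lift (Vl s).ι π.left hrange) (by
        show _ ≫ (Vl s).ι ≫ Xl.hom = _
        rw [IsOpenImmersion.lift_fac_assoc]
        exact Over.w π)
      have e1 : p' ≫ h s = π ≫ E := by
        have : π = π' ≫ Over.homMk (Vl s).ι rfl :=
          Over.OverMorphism.ext (IsOpenImmersion.lift_fac _ _ _).symm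
        rw [this, Category.assoc, hE, ← Category.assoc]
        exact hkill s s Z' hZl _ _
      have e2 : p' ≫ h' s = 1 := by
        rw [MonObj.comp_mul, e1, ← Category.assoc, hone (p' ≫ toOne (W s)) (π ≫ toOne Xl), Category.assoc,
          ← MonObj.comp_mul, hCE, MonObj.comp_one]
      show p'.left.appTop (dfn (h' s) - 1) = 0
      rw [map_sub, ← dfn_comp, e2, dfn_one, map_one, sub_self]
    have hu : IsUnit (1 + scal f (W s) lam * b) := by
      have e : 1 + scal f (W s) lam * b = dfn (h' s) := by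
        show 1 + fn ((W s).hom ≫ f) lam * b = _
        rw [← hb]
        ring
      rw [e]
      exact isUnit_dfn _
    obtain ⟨g, hg⟩ := exists_bfn b hu
    refine ⟨g, dfn_ext ?_⟩
    rw [dfn_alpha, hg]
    show 1 + fn ((W s).hom ≫ f) lam * b = _
    rw [← hb]
    ring
  choose g hg using hb
  let x' (s : X) : W s ⟶ P := tr a (g s) (x s)
  have hx' : ∀ s, x' s ≫ φ = toOne (W s) ≫ y' := fun s => by
    rw [hmor, hg, tr_mul, hh, tr_comp]
  obtain ⟨σ, -⟩ := exists_glue (W := one) V (fun w => ⟨w, hsV w⟩) x' fun s t Z p q hpq => by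
    let I : X.Opens := V s ⊓ V t
    let T : Over X := Over.mk (I.ι ≫ one.hom)
    let ps : T ⟶ W s := Over.homMk (X.homOfLE (inf_le_left : I ≤ V s)) (by
      show _ ≫ (V s).ι ≫ 𝟙 X = I.ι ≫ 𝟙 X
      rw [Category.comp_id, Category.comp_id, Scheme.homOfLE_ι])
    let qt : T ⟶ W t := Over.homMk (X.homOfLE (inf_le_right : I ≤ V t)) (by
      show _ ≫ (V t).ι ≫ 𝟙 X = I.ι ≫ 𝟙 X
      rw [Category.comp_id, Category.comp_id, Scheme.homOfLE_ι])
    have hr : Set.range (p.left ≫ (V s).ι) ⊆ Set.range I.ι := by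
      rintro _ ⟨z, rfl⟩
      rw [Scheme.Opens.range_ι]
      refine ⟨(p.left z).2, ?_⟩
      rw [hpq]
      exact (q.left z).2
    let m : Z ⟶ T := Over.homMk (IsOpenImmersion.lift I.ι (p.left ≫ (V s).ι) hr) (by
      show _ ≫ I.ι ≫ 𝟙 X = _
      rw [Category.comp_id, IsOpenImmersion.lift_fac, ← Over.w p]
      show p.left ≫ (V s).ι = p.left ≫ (V s).ι ≫ 𝟙 X
      rw [Category.comp_id])
    have hm : m.left ≫ I.ι = p.left ≫ (V s).ι := IsOpenImmersion.lift_fac _ _ _
    have hp : p = m ≫ ps := Over.OverMorphism.ext (eq_comp_homOfLE (inf_le_left : I ≤ V s) m.left p.left hm)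
    have hq : q = m ≫ qt := Over.OverMorphism.ext
      (eq_comp_homOfLE (inf_le_right : I ≤ V t) m.left q.left (hm.trans hpq))
    suffices ps ≫ x' s = qt ≫ x' t by rw [hp, hq, Category.assoc, Category.assoc, this]
    obtain ⟨k, hk, -⟩ := existsUnique_tr a hps (ps ≫ x' s) (qt ≫ x' t)
    have hk1 : k ≫ alphaX f lam = 1 := by
      refine (existsUnique_tr aQ hQ.1 (ps ≫ x' s ≫ φ) (qt ≫ x' t ≫ φ)).unique ?_ ?_
      · rw [← Category.assoc, ← hmor, hk, Category.assoc]
      · rw [tr_one, hx', hx', ← Category.assoc, ← Category.assoc, hone (ps ≫ toOne _) (qt ≫ toOne _)]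
    haveI : Flat (T.hom ≫ f) := inferInstanceAs (Flat ((I.ι ≫ 𝟙 X) ≫ f))
    have hb0 : bfn k = 0 := eq_zero_of_mul hlam (T.hom ≫ f) _ (by
      have := congrArg dfn hk1
      rw [dfn_alpha, dfn_one] at this
      exact add_eq_left.1 this)
    have : k = 1 := bfn_ext (hb0.trans bfn_one.symm)
    rw [← hk, this, tr_one]
  exact ⟨σ.left, Over.w σ⟩

end Main

end Groth.Agent.SekTriv
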