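import Groth.Agent.SekTriv.Basic
import Groth.Agent.SekK.Basic
import Groth.Agent.FinSect.Torsor
import Groth.Agent.S14694
import Groth.Prelude.Def_SekSuwa2
import Mathlib.AlgebraicGeometry.FunctionField

/-!
Injectivity of `H¹(X, G_{λ,N}) → H¹(X, μ_N)` over normal integral schemes: the generic fibre case.
-/

set_option autoImplicit false
set_option linter.style.haveILetI false
set_option synthInstance.maxHeartbeats 400000
set_option maxHeartbeats 800000

universe u

noncomputable section

open CategoryTheory Limits MonoidalCategory CartesianMonoidalCategory MonObj AlgebraicGeometry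

namespace Groth.Agent.SekTriv

open Groth.Agent.SekTorsor (fn fn_comp fn_SpecMap fn_toSpecΓ fn_ext)

variable {R : Type u} [CommRing R] {lam : R} {N : ℕ} {h : SekSuwa.DivCond lam N}

/-- `α^{λ,N}` is bijective on points where `λ` is invertible. -/
theorem bijective_alphaN [NeZero N] {B : Type u} [CommRing B] [Algebra R B] (hl : IsUnit (algebraMap R B lam)) :
    Function.Bijective (fun φ : SekSuwa.AK R lam N h →ₐ[R] B =>
      φ.comp ((SekSuwa.alphaNHom R lam N h :
        MonoidAlgebra R (Multiplicative (ZMod N)) →ₐ[R] SekSuwa.AK R lam N h))) := by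
  set e := MonoidAlgebra.single (Multiplicative.ofAdd (1 : ZMod N)) (1 : R)
  have hval : ∀ φ : SekSuwa.AK R lam N h →ₐ[R] B,
      φ (SekSuwa.alphaNHom R lam N h e) = 1 + algebraMap R B lam * φ SekSuwa.AK.t := fun φ => by
    rw [SekSuwa.alphaNHom_single_one, map_add, map_one, map_smul, Algebra.smul_def]
  refine ⟨fun φ φ' hφ => ?_, fun ψ => ?_⟩
  · have h1 : φ (SekSuwa.alphaNHom R lam N h e) = φ' (SekSuwa.alphaNHom R lam N h e) := AlgHom.congr_fun hφ e
    rw [hval, hval, add_right_inj] at h1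
    have ht := hl.mul_left_cancel h1
    refine SekSuwa.AK.algHom_ext ht ?_
    have e1 : ∀ χ : SekSuwa.AK R lam N h →ₐ[R] B,
        (1 + algebraMap R B lam * χ SekSuwa.AK.t) * χ SekSuwa.AK.inv = 1 := fun χ => by
      have := congrArg χ (SekK.u_mul_inv (R := R) (lam := lam) h)
      rwa [map_mul, map_add, map_one, map_smul, Algebra.smul_def] at this
    have h2 := e1 φ'
    rw [← ht] at h2
    exact (IsUnit.of_mul_eq_one _ (e1 φ)).mul_left_cancel ((e1 φ).trans h2.symm)
  · have hN : 0 < N := Nat.pos_of_ne_zero (NeZero.ne N)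
    set v := ψ e
    have hv : v ^ N = 1 := by
      rw [← map_pow, MonoidAlgebra.single_pow, one_pow, ← ofAdd_nsmul, nsmul_one, ZMod.natCast_self]
      exact map_one ψ
    let b : B := ↑hl.unit⁻¹ * (v - 1)
    have hb : 1 + algebraMap R B lam * b = v := by
      rw [← _root_.mul_assoc, IsUnit.mul_val_inv, _root_.one_mul, add_sub_cancel]
    have hP : Polynomial.aeval b (SekSuwa.psiPoly lam N h) = 0 := by
      have := SekSuwa.aeval_psiPoly h b
      rw [hb, hv, sub_self] at this
      exact ((hl.pow N).mul_right_eq_zero).1 (by rw [← map_pow]; exact this)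
    let χ : SekSuwa.A R lam →ₐ[R] B := SekSuwa.A.lift R lam b (v ^ (N - 1)) (by
      rw [Algebra.smul_def, hb, ← pow_succ', Nat.sub_add_cancel hN, hv])
    have hker : ∀ z ∈ SekSuwa.kerIdeal lam N h, χ z = 0 := by
      intro z hz
      obtain ⟨c, rfl⟩ := Ideal.mem_span_singleton'.1 hz
      rw [map_mul]
      show χ c * χ (Polynomial.aeval (SekSuwa.A.t : SekSuwa.A R lam) (SekSuwa.psiPoly lam N h)) = 0
      rw [← Polynomial.aeval_algHom_apply, show χ SekSuwa.A.t = b from SekSuwa.A.lift_t _ _ _, hP, mul_zero]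
    let φ : SekSuwa.AK R lam N h →ₐ[R] B := Ideal.Quotient.liftₐ (SekSuwa.kerIdeal lam N h) χ hker
    have hφt : φ SekSuwa.AK.t = b := show χ SekSuwa.A.t = b from SekSuwa.A.lift_t (R := R) (lam := lam) _ _ _
    refine ⟨φ, (MonoidAlgebra.lift R B (Multiplicative (ZMod N))).symm.injective (MonoidHom.ext fun g => ?_)⟩
    obtain ⟨m, rfl⟩ : ∃ m : ℕ, g = Multiplicative.ofAdd (1 : ZMod N) ^ m :=
      ⟨(Multiplicative.toAdd g).val, by rw [← ofAdd_nsmul, nsmul_one, ZMod.natCast_zmod_val, ofAdd_toAdd]⟩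
    have hm : MonoidAlgebra.single (Multiplicative.ofAdd (1 : ZMod N) ^ m) (1 : R) = e ^ m := by
      rw [MonoidAlgebra.single_pow, one_pow]
    show φ (SekSuwa.alphaNHom R lam N h (MonoidAlgebra.single _ 1)) = ψ (MonoidAlgebra.single _ 1)
    rw [hm, map_pow, map_pow, map_pow, hval, hφt, hb]

/-- The base change of `α^{λ,N}` along a morphism on which `λ` is invertible is an isomorphism. -/
theorem isIso_pullback_alphaN [NeZero N] {T : Scheme.{u}} (τ : T ⟶ Spec (CommRingCat.of R))
    (hl : IsUnit (fn (A := R) τ lam)) :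
    IsIso ((Over.pullback τ).map (SekSuwa.alphaN R lam N h)) := by
  refine isIso_of_yoneda_map_bijective _ fun U => ?_
  let adj := Over.mapPullbackAdj τ
  have hcomp : ∀ x : U ⟶ (Over.pullback τ).obj (SekSuwa.GK R lam N h),
      (adj.homEquiv _ _).symm (x ≫ (Over.pullback τ).map (SekSuwa.alphaN R lam N h)) =
        (adj.homEquiv _ _).symm x ≫ SekSuwa.alphaN R lam N h := fun x =>
    adj.homEquiv_naturality_right_symm _ _
  let Z := (Over.map τ).obj U
  letI : Algebra R Γ(Z.left, ⊤) := (fn (A := R) Z.hom).toAlgebra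
  have hlZ : IsUnit (algebraMap R Γ(Z.left, ⊤) lam) := by
    show IsUnit (fn (A := R) (U.hom ≫ τ) lam)
    rw [fn_comp]
    exact hl.map U.hom.appTop.hom
  obtain ⟨hinj, hsurj⟩ := bijective_alphaN (h := h) hlZ
  have toAlg : ∀ z : Z ⟶ SekSuwa.GK R lam N h, ∀ r : R,
      fn (A := SekSuwa.AK R lam N h) z.left (algebraMap R _ r) = algebraMap R Γ(Z.left, ⊤) r := fun z r => by
    have e : z.left ≫ Spec.map (CommRingCat.ofHom (algebraMap R (SekSuwa.AK R lam N h))) = Z.hom := Over.w z
    exact (RingHom.congr_fun (fn_SpecMap (algebraMap R (SekSuwa.AK R lam N h)) z.left) r).symm.trans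
      (congrArg (fun k => fn (A := R) k r) e)
  let A (z : Z ⟶ SekSuwa.GK R lam N h) : SekSuwa.AK R lam N h →ₐ[R] Γ(Z.left, ⊤) :=
    { fn (A := SekSuwa.AK R lam N h) z.left with commutes' := toAlg z }
  have hA : ∀ z, fn (A := MonoidAlgebra R (Multiplicative (ZMod N))) (z ≫ SekSuwa.alphaN R lam N h).left =
      ((A z).comp (SekSuwa.alphaNHom R lam N h :
        MonoidAlgebra R (Multiplicative (ZMod N)) →ₐ[R] SekSuwa.AK R lam N h)).toRingHom := fun z =>
    fn_SpecMap _ z.left
  refine ⟨fun x y hxy => ?_, fun w => ?_⟩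
  · apply (adj.homEquiv _ _).symm.injective
    have h1 : (adj.homEquiv _ _).symm x ≫ SekSuwa.alphaN R lam N h =
        (adj.homEquiv _ _).symm y ≫ SekSuwa.alphaN R lam N h := by
      rw [← hcomp, ← hcomp]
      exact congrArg _ hxy
    have h2 := congrArg (fun z : Z ⟶ Red.diag R (ZMod N) =>
      fn (A := MonoidAlgebra R (Multiplicative (ZMod N))) z.left) h1
    simp only [hA] at h2
    exact Over.OverMorphism.ext (fn_ext (congrArg AlgHom.toRingHom
      (hinj (AlgHom.ext fun r => RingHom.congr_fun h2 r))))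
  · let z' := (adj.homEquiv _ _).symm w
    let ψ : MonoidAlgebra R (Multiplicative (ZMod N)) →ₐ[R] Γ(Z.left, ⊤) :=
      { fn (A := MonoidAlgebra R (Multiplicative (ZMod N))) z'.left with
        commutes' := fun r => (RingHom.congr_fun (fn_SpecMap (algebraMap R _) z'.left) r).symm.trans
          (congrArg (fun k => fn (A := R) k r) (Over.w z')) }
    obtain ⟨φ, hφ⟩ := hsurj ψ
    let z : Z ⟶ SekSuwa.GK R lam N h :=
      Over.homMk (Z.left.toSpecΓ ≫ Spec.map (CommRingCat.ofHom φ.toRingHom)) (fn_ext (by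
        show fn ((Z.left.toSpecΓ ≫ Spec.map (CommRingCat.ofHom φ.toRingHom)) ≫
          Spec.map (CommRingCat.ofHom (algebraMap R (SekSuwa.AK R lam N h)))) = fn (A := R) Z.hom
        rw [fn_SpecMap, fn_toSpecΓ]
        exact RingHom.ext φ.commutes))
    have hz : z ≫ SekSuwa.alphaN R lam N h = z' := by
      refine Over.OverMorphism.ext (fn_ext ((hA z).trans ?_))
      have : A z = φ := AlgHom.coe_ringHom_injective (fn_toSpecΓ φ.toRingHom)
      rw [this]
      exact congrArg AlgHom.toRingHom hφ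
    refine ⟨adj.homEquiv _ _ z, ?_⟩
    apply (adj.homEquiv _ _).symm.injective
    rw [hcomp, Equiv.symm_apply_apply, hz]

variable {X : Scheme.{u}} [IsIntegral X] (f : X ⟶ Spec (CommRingCat.of R)) [Flat f]

/-- `λ` is invertible at the generic point. -/
theorem isUnit_generic [IsDomain R] (hlam : lam ≠ 0) :
    IsUnit (fn (A := R) (X.fromSpecStalk (genericPoint X) ≫ f) lam) := by
  haveI : Nonempty ((⊤ : X.Opens) : Scheme.{u}) := ⟨⟨genericPoint X, trivial⟩⟩
  rw [fn_comp, Scheme.fromSpecStalk_appTop]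
  show IsUnit ((Scheme.ΓSpecIso _).inv.hom (X.germToFunctionField ⊤ (fn (A := R) f lam)))
  refine IsUnit.map (Scheme.ΓSpecIso _).inv.hom ?_
  have hne : X.germToFunctionField ⊤ (fn (A := R) f lam) ≠ 0 := by
    intro h0
    have h1 : fn (A := R) f lam = 0 := germ_injective_of_isIntegral X _ _ (h0.trans (map_zero _).symm)
    exact one_ne_zero (eq_zero_of_mul hlam f (1 : Γ(X, ⊤)) (by rw [h1, zero_mul]))
  exact hne.isUnit

/-- Torsors under `G_{λ,N}` trivialised by `α^{λ,N}` are trivial. -/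
theorem hasSection_GK [IsDomain R] [NeZero N] (hX : Pi1.IsNormalScheme X) (hlam : lam ≠ 0)
    (P : Over X) (a : AlgGrp.Action (Red.bc f (SekSuwa.GK R lam N h)) P)
    (hP : NonAbH1.IsTorsorFor Scheme.fppfPrecoverage a)
    (P' : Over X) (a' : AlgGrp.Action (Red.bc f (Red.diag R (ZMod N))) P')
    (hP' : NonAbH1.IsPseudoTorsorSch a')
    (hpush : NonAbH1.IsPushforwardAlongSch ((Over.pullback f).map (SekSuwa.alphaN R lam N h)) a a')
    (htriv : NonAbH1.HasSectionOver P' (𝟙 X)) :
    NonAbH1.HasSectionOver P (𝟙 X) := by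
  obtain ⟨φ, hφ⟩ := hpush
  haveI : IsFinite (Red.bc f (SekSuwa.GK R lam N h)).hom := by
    obtain ⟨⟨hfin, -, -⟩, -⟩ := S14694.result R lam N (Nat.pos_of_ne_zero (NeZero.ne N)) h
    show IsFinite (pullback.snd _ _)
    exact MorphismProperty.pullback_snd _ _ hfin
  refine FinSect.hasSectionOver_of_generic hX hP ?_
  refine FinSect.hasSectionOver_of_push (X.fromSpecStalk (genericPoint X))
    ((Over.pullback f).map (SekSuwa.alphaN R lam N h)) ?_ hP hP' φ hφ htriv
  haveI := isIso_pullback_alphaN (h := h) (X.fromSpecStalk (genericPoint X) ≫ f) (isUnit_generic f hlam)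
  exact (NatIso.isIso_map_iff (Over.pullbackComp (X.fromSpecStalk (genericPoint X)) f)
    (SekSuwa.alphaN R lam N h)).1 inferInstance

end Groth.Agent.SekTriv
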