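import Groth.Agent.SekTriv.Coord
import Groth.Agent.S14693
import Mathlib.RingTheory.AdjoinRoot

/-!
Fibres of `ψ : G^(λ) → G^(λ^N)` as torsors, and Kummer classification of `μ_N`-torsors over a local ring.
-/

set_option autoImplicit false
set_option linter.style.haveILetI false
set_option synthInstance.maxHeartbeats 400000
set_option maxHeartbeats 800000

universe u

noncomputable section

open CategoryTheory Limits MonoidalCategory CartesianMonoidalCategory MonObj AlgebraicGeometry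

namespace Groth.Agent.SekTriv

open Groth.Agent.SekTorsor (fn fn_comp fn_SpecMap fn_toSpecΓ fn_ext scal bfn rfn rfn_comp rfn_mul ringHom_ext_A)
open Groth.Agent.Torsor (smul)

variable {R : Type u} [CommRing R]

section Points

variable {lam : R} {N : ℕ} {h : SekSuwa.DivCond lam N} {T T' : Over (Spec (CommRingCat.of R))}

/-- The scalars. -/
abbrev sc (T : Over (Spec (CommRingCat.of R))) : R →+* Γ(T.left, ⊤) := fn T.hom

theorem sc_comp (p : T' ⟶ T) (r : R) : p.left.appTop (sc T r) = sc T' r := by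
  rw [← fn_comp, Over.w p]

theorem fnA_algebraMap (x : T ⟶ SekSuwa.G R lam) (r : R) :
    fn (A := SekSuwa.A R lam) x.left (algebraMap R _ r) = sc T r :=
  (RingHom.congr_fun (fn_SpecMap (algebraMap R (SekSuwa.A R lam)) x.left) r).symm.trans
    (congrArg (fun k => fn (A := R) k r) (Over.w x))

theorem rfn_ext {x y : T ⟶ SekSuwa.G R lam} (e : rfn x = rfn y) : x = y :=
  Over.OverMorphism.ext (fn_ext (ringHom_ext_A (fun r => (fnA_algebraMap x r).trans (fnA_algebraMap y r).symm) e))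

theorem isUnit_rfn (x : T ⟶ SekSuwa.G R lam) : IsUnit (1 + sc T lam * rfn x) := by
  have h := (SekSuwa.A.isUnit_u (R := R) (lam := lam)).map (fn (A := SekSuwa.A R lam) x.left)
  rwa [SekSuwa.A.u_def, map_add, map_one, map_mul, fnA_algebraMap] at h

theorem exists_rfn (b : Γ(T.left, ⊤)) (hb : IsUnit (1 + sc T lam * b)) :
    ∃ x : T ⟶ SekSuwa.G R lam, rfn x = b := by
  letI : Algebra R Γ(T.left, ⊤) := (sc T).toAlgebra
  let φ : SekSuwa.A R lam →ₐ[R] Γ(T.left, ⊤) := SekSuwa.A.lift R lam b ↑(hb.unit⁻¹) (by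
    rw [Algebra.smul_def]
    exact hb.mul_val_inv)
  refine ⟨Over.homMk (T.left.toSpecΓ ≫ Spec.map (CommRingCat.ofHom φ.toRingHom)) (fn_ext ?_), ?_⟩
  · show fn ((T.left.toSpecΓ ≫ Spec.map (CommRingCat.ofHom φ.toRingHom)) ≫
      Spec.map (CommRingCat.ofHom (algebraMap R (SekSuwa.A R lam)))) = fn (A := R) T.hom
    rw [fn_SpecMap, fn_toSpecΓ]
    exact RingHom.ext φ.commutes
  · exact (RingHom.congr_fun (fn_toSpecΓ φ.toRingHom) _).trans (SekSuwa.A.lift_t _ _ _)

theorem rfn_one : rfn (1 : T ⟶ SekSuwa.G R lam) = 0 := by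
  have h := rfn_mul (1 : T ⟶ SekSuwa.G R lam) 1
  rw [pt_one_mul] at h
  refine ((isUnit_rfn (1 : T ⟶ SekSuwa.G R lam)).mul_right_eq_zero).1 ?_
  linear_combination -h

theorem rfn_psi (x : T ⟶ SekSuwa.G R lam) :
    rfn (x ≫ SekSuwa.psi R lam N h) = (SekSuwa.psiPoly lam N h).eval₂ (sc T) (rfn x) := by
  refine (RingHom.congr_fun (fn_SpecMap (A := SekSuwa.A R (lam ^ N)) (A' := SekSuwa.A R lam)
    (SekSuwa.psiHom R lam N h : SekSuwa.A R (lam ^ N) →+* SekSuwa.A R lam) x.left) SekSuwa.A.t).trans ?_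
  show fn (A := SekSuwa.A R lam) x.left (SekSuwa.psiHom R lam N h SekSuwa.A.t) = _
  rw [SekSuwa.psiHom_t, SekSuwa.kerGen, Polynomial.aeval_def, Polynomial.hom_eval₂]
  congr 1
  exact RingHom.ext (fnA_algebraMap x)

theorem psiPoly_spec' (x : Γ(T.left, ⊤)) :
    sc T (lam ^ N) * (SekSuwa.psiPoly lam N h).eval₂ (sc T) x = (1 + sc T lam * x) ^ N - 1 := by
  letI : Algebra R Γ(T.left, ⊤) := (sc T).toAlgebra
  exact SekSuwa.aeval_psiPoly h x

/-- The coordinate of `1 + λ b` on the finite subgroup. -/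
abbrev kfn (g : T ⟶ SekSuwa.GK R lam N h) : Γ(T.left, ⊤) := rfn (g ≫ SekSuwa.incl R lam N h)

theorem eval_kfn (g : T ⟶ SekSuwa.GK R lam N h) :
    (SekSuwa.psiPoly lam N h).eval₂ (sc T) (kfn g) = 0 := by
  rw [← rfn_psi, Category.assoc, SekSuwa.incl_psi, MonObj.comp_one, rfn_one]

theorem one_add_kfn_pow (g : T ⟶ SekSuwa.GK R lam N h) : (1 + sc T lam * kfn g) ^ N = 1 := by
  rw [← sub_eq_zero, ← psiPoly_spec' (h := h), eval_kfn, mul_zero]

theorem kfn_ext {g g' : T ⟶ SekSuwa.GK R lam N h} (e : kfn g = kfn g') : g = g' := by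
  have hk := S14693.result R lam N h
  exact hk.hom_ext (rfn_ext e) (toUnit_unique _ _)

theorem exists_kfn (b : Γ(T.left, ⊤)) (hb : IsUnit (1 + sc T lam * b))
    (hP : (SekSuwa.psiPoly lam N h).eval₂ (sc T) b = 0) : ∃ g : T ⟶ SekSuwa.GK R lam N h, kfn g = b := by
  obtain ⟨x, hx⟩ := exists_rfn b hb
  have hk := S14693.result R lam N h
  have e : x ≫ SekSuwa.psi R lam N h = toUnit T ≫ η := by
    rw [← Hom.one_def]
    exact rfn_ext (by rw [rfn_psi, hx, hP, rfn_one])
  exact ⟨hk.lift x (toUnit T) e, (congrArg rfn (hk.lift_fst x (toUnit T) e)).trans hx⟩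

/-- The tautological character. -/
def zfn {N : ℕ} (g : T ⟶ Red.diag R (ZMod N)) : Γ(T.left, ⊤) :=
  fn (A := MonoidAlgebra R (Multiplicative (ZMod N))) g.left (MonoidAlgebra.single (Multiplicative.ofAdd (1 : ZMod N)) 1)

theorem zfn_comp {N : ℕ} (p : T' ⟶ T) (g : T ⟶ Red.diag R (ZMod N)) : zfn (p ≫ g) = p.left.appTop (zfn g) :=
  fn_comp p.left g.left _

theorem zfn_alphaN (g : T ⟶ SekSuwa.GK R lam N h) :
    zfn (g ≫ SekSuwa.alphaN R lam N h) = 1 + sc T lam * kfn g := by
  refine (RingHom.congr_fun (fn_SpecMap (A := MonoidAlgebra R (Multiplicative (ZMod N))) (A' := SekSuwa.AK R lam N h)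
    (SekSuwa.alphaNHom R lam N h : MonoidAlgebra R (Multiplicative (ZMod N)) →+* SekSuwa.AK R lam N h) g.left) _).trans ?_
  show fn (A := SekSuwa.AK R lam N h) g.left (SekSuwa.alphaNHom R lam N h _) = _
  rw [SekSuwa.alphaNHom_single_one, map_add, map_one, Algebra.smul_def, map_mul]
  congr 2
  · exact (RingHom.congr_fun (fn_SpecMap (algebraMap R (SekSuwa.AK R lam N h)) g.left) lam).symm.trans
      (congrArg (fun k => fn (A := R) k lam) (Over.w g))
  · exact (RingHom.congr_fun (fn_SpecMap (A := SekSuwa.A R lam) (A' := SekSuwa.AK R lam N h)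
      (SekSuwa.AK.mkHom R lam N h : SekSuwa.A R lam →+* SekSuwa.AK R lam N h) g.left) SekSuwa.A.t).symm

end Points

section Fib

variable (lam : R) (N : ℕ) (h : SekSuwa.DivCond lam N) (c : R) (hc : IsUnit (1 + lam ^ N * c))

/-- The point `c`. -/
def cpt : 𝟙_ (Over (Spec (CommRingCat.of R))) ⟶ SekSuwa.G R (lam ^ N) :=
  (exists_rfn (sc _ c) (by rw [← map_mul, ← map_one (sc _), ← map_add]; exact hc.map _)).choose

theorem rfn_cpt : rfn (cpt lam N c hc) = sc _ c :=
  (exists_rfn (sc _ c) (by rw [← map_mul, ← map_one (sc _), ← map_add]; exact hc.map _)).choose_spec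

/-- The fibre of `ψ` over `c`. -/
abbrev Fib : Over (Spec (CommRingCat.of R)) := pullback (SekSuwa.psi R lam N h) (cpt lam N c hc)

variable {lam N h c hc}

/-- The coordinate of a point of the fibre. -/
abbrev qfn {T : Over (Spec (CommRingCat.of R))} (x : T ⟶ Fib lam N h c hc) : Γ(T.left, ⊤) :=
  rfn (x ≫ pullback.fst _ _)

variable {T : Over (Spec (CommRingCat.of R))}

theorem eval_qfn (x : T ⟶ Fib lam N h c hc) :
    (SekSuwa.psiPoly lam N h).eval₂ (sc T) (qfn x) = sc T c := by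
  rw [← rfn_psi, Category.assoc, pullback.condition, ← Category.assoc, rfn_comp, rfn_cpt, sc_comp]

theorem qfn_pow (x : T ⟶ Fib lam N h c hc) : (1 + sc T lam * qfn x) ^ N = sc T (1 + lam ^ N * c) := by
  rw [map_add, map_one, map_mul, ← eval_qfn x, psiPoly_spec']
  ring

theorem qfn_ext {x y : T ⟶ Fib lam N h c hc} (e : qfn x = qfn y) : x = y :=
  pullback.hom_ext (rfn_ext e) (toUnit_unique _ _)

theorem exists_qfn (b : Γ(T.left, ⊤)) (hb : IsUnit (1 + sc T lam * b))
    (hP : (SekSuwa.psiPoly lam N h).eval₂ (sc T) b = sc T c) : ∃ x : T ⟶ Fib lam N h c hc, qfn x = b := by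
  obtain ⟨x, hx⟩ := exists_rfn b hb
  refine ⟨pullback.lift x (toUnit T) (rfn_ext ?_), ?_⟩
  · rw [rfn_psi, hx, hP, rfn_comp, rfn_cpt, sc_comp]
  · exact (congrArg rfn (pullback.lift_fst _ _ _)).trans hx

variable (lam N h c hc) in
/-- The action of the kernel on the fibre. -/
def factHom : SekSuwa.GK R lam N h ⊗ Fib lam N h c hc ⟶ Fib lam N h c hc :=
  pullback.lift ((fst _ _ ≫ SekSuwa.incl R lam N h) * (snd _ _ ≫ pullback.fst _ _)) (toUnit _) (by
    rw [MonObj.mul_comp, Category.assoc, SekSuwa.incl_psi, MonObj.comp_one, pt_one_mul, Category.assoc,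
      pullback.condition, ← Category.assoc, toUnit_unique (snd _ _ ≫ pullback.snd _ _) (toUnit _)])

theorem lift_factHom (g : T ⟶ SekSuwa.GK R lam N h) (x : T ⟶ Fib lam N h c hc) :
    lift g x ≫ factHom lam N h c hc ≫ pullback.fst _ _ = (g ≫ SekSuwa.incl R lam N h) * (x ≫ pullback.fst _ _) := by
  rw [factHom, pullback.lift_fst, MonObj.comp_mul, lift_fst_assoc, lift_snd_assoc]

variable (lam N h c hc) in
/-- The action. -/
def fact : AlgGrp.Action (SekSuwa.GK R lam N h) (Fib lam N h c hc) where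
  act := factHom lam N h c hc
  one_act := by
    refine pullback.hom_ext ?_ (toUnit_unique _ _)
    have e : η ▷ Fib lam N h c hc =
        lift (toUnit _ ≫ η[SekSuwa.GK R lam N h]) (snd _ _) := by
      apply CartesianMonoidalCategory.hom_ext <;> simp [toUnit_unique (fst _ _) (toUnit _)]
    rw [Category.assoc, e, lift_factHom, ← Hom.one_def, MonObj.one_comp, pt_one_mul, leftUnitor_hom]
  mul_act := by
    apply AlgGrp.Action.hom_ext_lift₃
    intro T g g' x
    refine pullback.hom_ext ?_ (toUnit_unique _ _)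
    rw [lift_whiskerRight_assoc, ← Hom.mul_def, lift_lift_associator_hom_assoc, lift_whiskerLeft_assoc,
      Category.assoc, Category.assoc, lift_factHom, lift_factHom, MonObj.mul_comp, Category.assoc, lift_factHom,
      _root_.mul_assoc]

theorem qfn_smul (g : T ⟶ SekSuwa.GK R lam N h) (x : T ⟶ Fib lam N h c hc) :
    qfn (smul (fact lam N h c hc) g x) = kfn g + qfn x + sc T lam * kfn g * qfn x := by
  show rfn ((lift g x ≫ factHom lam N h c hc) ≫ pullback.fst _ _) = _
  rw [Category.assoc, lift_factHom, rfn_mul]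

theorem isPseudoTorsor_fact : NonAbH1.IsPseudoTorsorSch (fact lam N h c hc) := by
  rw [Torsor.isPseudoTorsor_iff]
  intro T x y
  have hu := isUnit_rfn (x ≫ pullback.fst (SekSuwa.psi R lam N h) (cpt lam N c hc))
  have e : ((y ≫ pullback.fst _ _) * (x ≫ pullback.fst _ _)⁻¹) ≫ SekSuwa.psi R lam N h = toUnit T ≫ η := by
    rw [MonObj.mul_comp, GrpObj.inv_comp, Category.assoc, Category.assoc, pullback.condition, ← Category.assoc,
      ← Category.assoc, toUnit_unique (y ≫ pullback.snd _ _) (x ≫ pullback.snd _ _), mul_inv_cancel, Hom.one_def]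
  have hk := S14693.result R lam N h
  refine ⟨hk.lift _ _ e, pullback.hom_ext ?_ (toUnit_unique _ _), fun g hg => hk.hom_ext ?_ (toUnit_unique _ _)⟩
  · show (lift _ x ≫ factHom lam N h c hc) ≫ _ = _
    rw [Category.assoc, lift_factHom, hk.lift_fst, inv_mul_cancel_right]
  · rw [hk.lift_fst, ← hg]
    show _ = ((lift g x ≫ factHom lam N h c hc) ≫ _) * _
    rw [Category.assoc, lift_factHom, mul_inv_cancel_right]

theorem isTorsor_fact (hN : 0 < N) : NonAbH1.IsTorsorFor Scheme.fppfPrecoverage (fact lam N h c hc) := by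
  refine ⟨isPseudoTorsor_fact, ?_⟩
  rcases subsingleton_or_nontrivial R with hR | hR
  · haveI := hR
    haveI : IsEmpty ↥(Spec (CommRingCat.of R)) := inferInstanceAs (IsEmpty (PrimeSpectrum R))
    refine ⟨_, Scheme.Hom.singleton_mem_fppfPrecoverage (𝟙 (Spec (CommRingCat.of R))), ?_⟩
    rintro _ _ ⟨⟩
    obtain ⟨x, -⟩ := exists_qfn (h := h) (c := c) (hc := hc) (T := Over.mk (𝟙 (Spec (CommRingCat.of R)))) 0
      (by simp) (Subsingleton.elim (α := Γ(Spec (CommRingCat.of R), ⊤)) _ _)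
    exact ⟨x.left, Over.w x⟩
  let P := SekSuwa.psiPoly lam N h - Polynomial.C c
  have hdeg := SekK.natDegree_eq h hN
  have hmon : P.Monic := (SekK.monic h hN).sub_of_left (by
    refine lt_of_le_of_lt Polynomial.degree_C_le ?_
    rw [Polynomial.degree_eq_natDegree (SekK.monic h hN).ne_zero, hdeg]
    exact_mod_cast hN)
  let B := AdjoinRoot P
  haveI : Module.Free R B := hmon.free_adjoinRoot
  haveI : Module.Finite R B := hmon.finite_adjoinRoot
  haveI : Nontrivial B := Module.nontrivial_of_finrank_pos (R := R) (by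
    rw [(AdjoinRoot.powerBasis' hmon).finrank, AdjoinRoot.powerBasis'_dim, Polynomial.natDegree_sub_C, hdeg]
    exact hN)
  haveI : Module.FaithfullyFlat R B := inferInstance
  haveI : Algebra.FinitePresentation R B := by
    haveI : Module.FinitePresentation R B := Module.finitePresentation_of_projective _ _
    exact (Module.FinitePresentation.iff_finitePresentation_of_finite R B).mp inferInstance
  let π := Spec.map (CommRingCat.ofHom (algebraMap R B))
  haveI : Flat π := (HasRingHomProperty.Spec_iff (P := @Flat)).mpr (RingHom.flat_algebraMap_iff.mpr inferInstance)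
  haveI : LocallyOfFinitePresentation π := (HasRingHomProperty.Spec_iff (P := @LocallyOfFinitePresentation)).mpr
    (RingHom.finitePresentation_algebraMap.mpr inferInstance)
  haveI : Surjective π := ⟨PrimeSpectrum.comap_surjective_of_faithfullyFlat⟩
  refine ⟨_, π.singleton_mem_fppfPrecoverage, ?_⟩
  rintro _ _ ⟨⟩
  let T : Over (Spec (CommRingCat.of R)) := Over.mk π
  let ev : B →+* Γ(T.left, ⊤) := fn (A := B) (𝟙 _)
  have hev : ev.comp (algebraMap R B) = sc T := by
    rw [← fn_SpecMap]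
    exact congrArg fn (Category.id_comp π)
  have hroot : (SekSuwa.psiPoly lam N h).eval₂ (sc T) (ev (AdjoinRoot.root P)) = sc T c := by
    rw [← hev, ← Polynomial.hom_eval₂, RingHom.comp_apply]
    refine congrArg ev ?_
    have := AdjoinRoot.eval₂_root P
    rw [Polynomial.eval₂_sub, Polynomial.eval₂_C, sub_eq_zero] at this
    exact this
  have hu : IsUnit (1 + sc T lam * ev (AdjoinRoot.root P)) := by
    refine (isUnit_pow_iff hN.ne').1 ?_
    rw [show (1 + sc T lam * ev (AdjoinRoot.root P)) ^ N = sc T (1 + lam ^ N * c) by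
      rw [map_add, map_one, map_mul, ← hroot, psiPoly_spec']; ring]
    exact hc.map _
  obtain ⟨x, -⟩ := exists_qfn (hc := hc) _ hu hroot
  exact ⟨x.left, Over.w x⟩

end Fib

section Classify

theorem divCond_one (N : ℕ) : SekSuwa.DivCond (1 : R) N :=
  ⟨Submonoid.one_mem _, (1 + Polynomial.C 1 * Polynomial.X) ^ N - 1, by simp⟩

theorem isIso_alphaN_one (N : ℕ) [NeZero N] : IsIso (SekSuwa.alphaN R 1 N (divCond_one N)) := by
  haveI := isIso_pullback_alphaN (lam := (1 : R)) (N := N) (h := divCond_one N) (𝟙 (Spec (CommRingCat.of R)))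
    (by rw [map_one]; exact isUnit_one)
  exact (NatIso.isIso_map_iff (Over.pullbackId (X := Spec (CommRingCat.of R))) _).1 this

theorem isMonHom_inv' {C : Type*} [Category C] [CartesianMonoidalCategory C] {G H : C} [GrpObj G] [GrpObj H]
    (i : G ⟶ H) [IsMonHom i] [IsIso i] : IsMonHom (inv i) where
  one_hom := by rw [IsIso.comp_inv_eq, IsMonHom.one_hom]
  mul_hom := by rw [IsIso.comp_inv_eq, Category.assoc, IsMonHom.mul_hom, ← Category.assoc, tensorHom_comp_tensorHom,
    IsIso.inv_hom_id, tensorHom_id, id_whiskerRight, Category.id_comp]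

theorem isFinite_diag (N : ℕ) [NeZero N] : IsFinite (Red.diag R (ZMod N)).hom ∧ Flat (Red.diag R (ZMod N)).hom := by
  haveI : Module.Finite R (MonoidAlgebra R (Multiplicative (ZMod N))) :=
    Module.Finite.of_basis (MonoidAlgebra.basis (Multiplicative (ZMod N)) R)
  haveI : Module.Free R (MonoidAlgebra R (Multiplicative (ZMod N))) :=
    Module.Free.of_basis (MonoidAlgebra.basis (Multiplicative (ZMod N)) R)
  show IsFinite (Spec.map (CommRingCat.ofHom (algebraMap R (MonoidAlgebra R (Multiplicative (ZMod N)))))) ∧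
    Flat (Spec.map (CommRingCat.ofHom (algebraMap R (MonoidAlgebra R (Multiplicative (ZMod N))))))
  exact ⟨(IsFinite.SpecMap_iff _).mpr (RingHom.finite_algebraMap.mpr inferInstance),
    (HasRingHomProperty.Spec_iff (P := @Flat)).mpr (RingHom.flat_algebraMap_iff.mpr inferInstance)⟩

/-- **Kummer theory over a local ring.** -/
theorem exists_classify [IsLocalRing R] (N : ℕ) [NeZero N] (Q : Over (Spec (CommRingCat.of R)))
    (b : AlgGrp.Action (Red.diag R (ZMod N)) Q) (hQ : NonAbH1.IsTorsorFor Scheme.fppfPrecoverage b) :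
    ∃ (r : Rˣ) (y : Γ(Q.left, ⊤)ˣ), (y : Γ(Q.left, ⊤)) ^ N = sc Q r ∧
      ∀ (T : Over (Spec (CommRingCat.of R))) (g : T ⟶ Red.diag R (ZMod N)) (x : T ⟶ Q),
        (smul b g x).left.appTop (y : Γ(Q.left, ⊤)) = zfn g * x.left.appTop (y : Γ(Q.left, ⊤)) := by
  haveI := isIso_alphaN_one (R := R) N
  haveI := isMonHom_inv' (SekSuwa.alphaN R 1 N (divCond_one N))
  obtain ⟨hfin, hflat⟩ := isFinite_diag (R := R) N
  haveI : IsAffineHom (Red.diag R (ZMod N)).hom := inferInstance
  let j := inv (SekSuwa.alphaN R 1 N (divCond_one N)) ≫ SekSuwa.incl R 1 N (divCond_one N)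
  haveI : IsMonHom j := inferInstance
  have hj : ∀ {T : Over (Spec (CommRingCat.of R))} (g : T ⟶ Red.diag R (ZMod N)), 1 + rfn (g ≫ j) = zfn g := by
    intro T g
    conv_rhs => rw [← Category.comp_id g, ← IsIso.inv_hom_id (SekSuwa.alphaN R 1 N (divCond_one N)),
      ← Category.assoc, zfn_alphaN, map_one, _root_.one_mul]
    rw [show g ≫ j = (g ≫ inv (SekSuwa.alphaN R 1 N (divCond_one N))) ≫ SekSuwa.incl R 1 N (divCond_one N) from
      (Category.assoc _ _ _).symm]
  obtain ⟨V, hsV, -, b₀, hb₀, hb⟩ := exists_coord (f := 𝟙 (Spec (CommRingCat.of R))) j (b.bc (𝟙 _))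
    (NonAbH1.isTorsorFor_bc _ _ hQ) (IsLocalRing.closedPoint R)
  have hVtop : ∀ z : Spec (CommRingCat.of R), z ∈ V := fun z =>
    (IsLocalRing.specializes_closedPoint z).mem_open V.2 hsV
  let Wm (T : Over (Spec (CommRingCat.of R))) : Over (Spec (CommRingCat.of R)) := Over.mk T.hom
  let eT (T : Over (Spec (CommRingCat.of R))) : (Over.map (𝟙 _)).obj (Wm T) ⟶ T :=
    Over.homMk (𝟙 T.left) ((Category.id_comp _).trans (Category.comp_id _).symm)
  let vT (T : Over (Spec (CommRingCat.of R))) : Wm T ⟶ Over.mk V.ι :=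
    Over.homMk (IsOpenImmersion.lift V.ι T.hom (by
      rintro _ ⟨z, rfl⟩
      rw [Scheme.Opens.range_ι]
      exact hVtop _)) (IsOpenImmersion.lift_fac _ _ _)
  let bT {T : Over (Spec (CommRingCat.of R))} (x : T ⟶ Q) : Γ(T.left, ⊤) :=
    (lift (vT T) (up (eT T ≫ x))).left.appTop b₀
  let yf {T : Over (Spec (CommRingCat.of R))} (x : T ⟶ Q) : Γ(T.left, ⊤) := 1 + bT x
  have hsc1 : ∀ W : Over (Spec (CommRingCat.of R)), scal (𝟙 (Spec (CommRingCat.of R))) W 1 = 1 := fun W => map_one _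
  have hunit : IsUnit (1 + b₀) := by rwa [hsc1, _root_.one_mul] at hb₀
  have hynat : ∀ {T : Over (Spec (CommRingCat.of R))} (x : T ⟶ Q), yf x = x.left.appTop (yf (𝟙 Q)) := by
    intro T x
    let q : Wm T ⟶ Wm Q := Over.homMk x.left (Over.w x)
    have hq : lift (vT T) (up (eT T ≫ x)) = q ≫ lift (vT Q) (up (eT Q ≫ 𝟙 Q)) := by
      rw [comp_lift]
      congr 1
      · exact Over.OverMorphism.ext ((cancel_mono V.ι).1 (by
          show IsOpenImmersion.lift V.ι T.hom _ ≫ V.ι = (x.left ≫ IsOpenImmersion.lift V.ι Q.hom _) ≫ V.ι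
          rw [IsOpenImmersion.lift_fac, Category.assoc, IsOpenImmersion.lift_fac, Over.w x]))
      · rw [← Adjunction.homEquiv_naturality_left]
        congr 1
    show _ = x.left.appTop (1 + _)
    rw [map_add, map_one]
    show 1 + _ = 1 + _
    congr 1
    show (lift (vT T) (up (eT T ≫ x))).left.appTop b₀ = _
    rw [hq]
    rfl
  obtain ⟨y, hy⟩ : ∃ y : Γ(Q.left, ⊤)ˣ, (y : Γ(Q.left, ⊤)) = yf (𝟙 Q) := by
    have h1 : IsUnit (yf (𝟙 Q)) := by
      have := hunit.map (lift (vT Q) (up (eT Q ≫ 𝟙 Q))).left.appTop.hom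
      rwa [map_add, map_one] at this
    exact ⟨h1.unit, rfl⟩
  have heq : ∀ (T : Over (Spec (CommRingCat.of R))) (g : T ⟶ Red.diag R (ZMod N)) (x : T ⟶ Q),
      (smul b g x).left.appTop (y : Γ(Q.left, ⊤)) = zfn g * x.left.appTop (y : Γ(Q.left, ⊤)) := by
    intro T g x
    rw [hy, ← hynat, ← hynat]
    have e : up (eT T ≫ smul b g x) = smul (b.bc (𝟙 _)) (up (eT T ≫ g)) (up (eT T ≫ x)) := by
      rw [Torsor.comp_smul]
      exact (AlgGrp.Action.lift_homEquiv_bc_act _ b (eT T ≫ g) (eT T ≫ x)).symm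
    show 1 + _ = zfn g * (1 + _)
    have e2 : pfn ((eT T ≫ g) ≫ j) = rfn (g ≫ j) := by
      show rfn ((eT T ≫ g) ≫ j) = _
      rw [Category.assoc, rfn_comp]
      rfl
    have h2 := hb (Wm T) (vT T) (eT T ≫ g) (up (eT T ≫ x))
    rw [← e, hsc1, _root_.one_mul, e2] at h2
    have h3 : bT (smul b g x) = rfn (g ≫ j) + bT x + rfn (g ≫ j) * bT x := h2
    show 1 + bT (smul b g x) = zfn g * (1 + bT x)
    rw [h3, ← hj]
    ring
  -- descend the power
  haveI : IsFinite Q.hom := FinSect.isFinite_torsor hQ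
  haveI : Flat Q.hom := Torsor.of_isTorsorFor (FinSect.fpqc_of_fppf hQ) @Flat ‹_›
  haveI : Surjective Q.hom := Torsor.surjective_of_isTorsorFor (FinSect.fpqc_of_fppf hQ)
  obtain ⟨r₀, hr₀⟩ := exists_desc_unit Q.hom (y ^ N) fun {Z} g₁ g₂ hg => by
    let T : Over (Spec (CommRingCat.of R)) := Over.mk (g₁ ≫ Q.hom)
    let x₁ : T ⟶ Q := Over.homMk g₁ rfl
    let x₂ : T ⟶ Q := Over.homMk g₂ hg.symm
    obtain ⟨g, hgx, -⟩ := (Torsor.isPseudoTorsor_iff b).1 hQ.1 T x₁ x₂
    have h1 := heq T g x₁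
    rw [hgx] at h1
    have hz : (zfn g) ^ N = 1 := by
      rw [← hj, ← _root_.one_mul (rfn (g ≫ j)), ← map_one (sc T)]
      rw [show g ≫ j = (g ≫ inv (SekSuwa.alphaN R 1 N (divCond_one N))) ≫ SekSuwa.incl R 1 N (divCond_one N) from
        (Category.assoc _ _ _).symm]
      rw [map_one]
      have := one_add_kfn_pow (g ≫ inv (SekSuwa.alphaN R 1 N (divCond_one N)))
      rwa [map_one] at this
    show x₁.left.appTop _ = x₂.left.appTop _
    rw [Units.val_pow_eq_pow_val, map_pow, map_pow, h1, mul_pow, hz, _root_.one_mul]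
  refine ⟨Units.map (Scheme.ΓSpecIso (CommRingCat.of R)).hom.hom.toMonoidHom r₀, y, ?_, heq⟩
  rw [← Units.val_pow_eq_pow_val, ← hr₀]
  show _ = Q.hom.appTop ((Scheme.ΓSpecIso (CommRingCat.of R)).inv ((Scheme.ΓSpecIso (CommRingCat.of R)).hom r₀.1))
  rw [Iso.hom_inv_id_apply]

end Classify

end Groth.Agent.SekTriv
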