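import Groth.Agent.SekK.Basic
import Groth.Prelude.Def_SekSuwa2
import Mathlib

/-!
Successive approximation: a unit which becomes `≡ 1 mod λ^N` up to `N`-th powers over a faithfully flat algebra with
reduced special fibre does so over the discrete valuation ring.
-/

set_option autoImplicit false
set_option linter.style.haveILetI false

universe u

open Ideal

namespace Groth.Agent.SekTriv

variable {R : Type u} [CommRing R] [IsDomain R]

theorem choose_eq {lam : R} {N : ℕ} (h : SekSuwa.DivCond lam N) {k : ℕ} (hk : k ≤ N) (hk0 : k ≠ 0) :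
    (N.choose k : R) = lam ^ (N - k) * (SekSuwa.psiPoly lam N h).coeff k := by
  have e := SekK.psiPoly_coeff h hk0
  have : lam ^ k * ((N.choose k : R) - lam ^ (N - k) * (SekSuwa.psiPoly lam N h).coeff k) = 0 := by
    rw [mul_sub, ← mul_assoc, ← pow_add, Nat.add_sub_cancel' hk, e]
    ring
  exact sub_eq_zero.1 ((mul_eq_zero.1 this).resolve_left (pow_ne_zero _ (nonZeroDivisors.ne_zero h.nzd)))

variable {A : Type u} [CommRing A] [Algebra R A]

/-- Powers of `1 + μw` for `μ` dividing `λ`. -/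
theorem dvd_pow_sub {lam a μ c : R} {N : ℕ} (h : SekSuwa.DivCond lam N) (hN : 0 < N) (hl : lam = a * μ) (hc : c ∣ a)
    (w : A) :
    algebraMap R A (μ ^ N * c) ∣ (1 + algebraMap R A μ * w) ^ N - 1 - (algebraMap R A μ * w) ^ N := by
  obtain ⟨M, rfl⟩ : ∃ M, N = M + 1 := ⟨N - 1, by omega⟩
  rw [add_comm (1 : A), add_pow, Finset.sum_range_succ, Nat.choose_self, Nat.cast_one]
  simp only [one_pow, mul_one]
  rw [Finset.sum_range_succ']
  simp only [pow_zero, Nat.choose_zero_right, Nat.cast_one, mul_one]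
  rw [show ∀ x y : A, x + 1 + y - 1 - y = x from fun x y => by ring]
  refine Finset.dvd_sum fun i hi => ?_
  have hi' : i < M := Finset.mem_range.1 hi
  have e := congrArg (algebraMap R A) (choose_eq h (k := i + 1) (by omega) (by omega))
  rw [map_natCast] at e
  rw [e]
  generalize (SekSuwa.psiPoly lam (M + 1) h).coeff (i + 1) = q
  obtain ⟨c', rfl⟩ := hc
  subst hl
  obtain ⟨d, hd⟩ : ∃ d, M + 1 - (i + 1) = d + 1 := ⟨M - i - 1, by omega⟩
  rw [hd, show M + 1 = (i + 1) + (d + 1) by omega]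
  refine Dvd.intro (algebraMap R A (c' ^ (d + 1) * c ^ d) * w ^ (i + 1) * algebraMap R A q) ?_
  simp only [map_mul, map_pow]
  ring

/-- **Successive approximation.** -/
theorem exists_root_unit [IsDiscreteValuationRing R] (p : ℕ) [Fact p.Prime] [CharP (IsLocalRing.ResidueField R) p]
    [PerfectField (IsLocalRing.ResidueField R)] (n : ℕ) {lam : R} (h : SekSuwa.DivCond lam (p ^ n))
    [Module.Flat R A] {ϖ : R} (hϖ : Irreducible ϖ) (hne : Ideal.span {algebraMap R A ϖ} ≠ ⊤)
    (hred : ∀ (z : A) (k : ℕ), z ^ k ∈ Ideal.span {algebraMap R A ϖ} → z ∈ Ideal.span {algebraMap R A ϖ})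
    (r : Rˣ) (v : Aˣ) (hrv : algebraMap R A (lam ^ (p ^ n)) ∣ algebraMap R A r * (v : A) ^ (p ^ n) - 1) :
    ∃ (s : Rˣ) (c₀ : R), (r : R) * (s : R) ^ (p ^ n) = 1 + lam ^ (p ^ n) * c₀ := by
  classical
  have hp : p.Prime := Fact.out
  set N := p ^ n
  have hN : 0 < N := pow_pos hp.pos n
  obtain ⟨m, ε, hlam⟩ := IsDiscreteValuationRing.eq_unit_mul_pow_irreducible (nonZeroDivisors.ne_zero h.nzd) hϖ
  set π := algebraMap R A ϖ
  have hreg : ∀ (e : ℕ) (z : A), π ^ e * z = 0 → z = 0 := fun e z hz => by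
    refine Module.Flat.isSMulRegular_of_nonZeroDivisors (M := A)
      (mem_nonZeroDivisors_of_ne_zero (pow_ne_zero e hϖ.ne_zero)) ?_
    show (ϖ ^ e) • z = (ϖ ^ e) • (0 : A)
    rw [Algebra.smul_def, map_pow, smul_zero]
    exact hz
  have hnu : ¬ IsUnit π := fun hu => hne (Ideal.span_singleton_eq_top.2 hu)
  have hcomap : ∀ (e : ℕ) (x : R), π ^ e ∣ algebraMap R A x → ϖ ^ e ∣ x := by
    intro e x hx
    rcases eq_or_ne x 0 with rfl | hx0
    · exact dvd_zero _
    obtain ⟨k, u, rfl⟩ := IsDiscreteValuationRing.eq_unit_mul_pow_irreducible hx0 hϖ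
    refine Dvd.dvd.mul_left (pow_dvd_pow ϖ ?_) _
    by_contra hlt
    obtain ⟨d, rfl⟩ := Nat.exists_eq_add_of_lt (not_le.1 hlt)
    obtain ⟨z, hz⟩ := hx
    have : π ^ k * (algebraMap R A u - π * (π ^ d * z)) = 0 := by
      rw [map_mul, map_pow] at hz
      linear_combination hz
    have hu : π ∣ algebraMap R A u := ⟨π ^ d * z, sub_eq_zero.1 (hreg k _ this)⟩
    exact hnu (isUnit_of_dvd_unit hu (u.isUnit.map _))
  have hεA : IsUnit (algebraMap R A ((ε : R) ^ N)) := ((ε.isUnit).pow N).map _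
  have hstart : π ^ (m * N) ∣ algebraMap R A r * (v : A) ^ N - 1 := by
    refine dvd_trans ?_ hrv
    rw [hlam, mul_pow, map_mul, ← pow_mul, map_pow (algebraMap R A) ϖ]
    exact dvd_mul_left _ _
  suffices hI : ∀ j ≤ m, ∃ (s : Rˣ) (v' : Aˣ), π ^ j ∣ (v' : A) - 1 ∧
      π ^ (m * N) ∣ algebraMap R A (r * (s : R) ^ N) * (v' : A) ^ N - 1 by
    obtain ⟨s, v', hv', hs⟩ := hI m le_rfl
    obtain ⟨w, hw⟩ := hv'
    have h1 : π ^ (m * N) ∣ (v' : A) ^ N - 1 := by
      have hd := dvd_pow_sub (A := A) h hN hlam (dvd_refl (ε : R)) w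
      have hμ : algebraMap R A (ϖ ^ m) = π ^ m := map_pow _ _ _
      rw [hμ, show (1 : A) + π ^ m * w = v' by rw [← hw]; ring] at hd
      have hd' : π ^ (m * N) ∣ (v' : A) ^ N - 1 - (π ^ m * w) ^ N :=
        dvd_trans (by rw [map_mul, ← pow_mul, map_pow]; exact dvd_mul_right _ _) hd
      have := dvd_add hd' (show π ^ (m * N) ∣ (π ^ m * w) ^ N by rw [mul_pow, ← pow_mul]; exact dvd_mul_right _ _)
      rwa [sub_add_cancel] at this
    have h2 : π ^ (m * N) ∣ algebraMap R A (r * (s : R) ^ N - 1) := by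
      have := dvd_sub hs (h1.mul_left (algebraMap R A (r * (s : R) ^ N)))
      rw [map_sub, map_one]
      convert this using 1
      ring
    obtain ⟨c, hc⟩ := hcomap _ _ h2
    refine ⟨s, c * ↑(ε ^ N)⁻¹, ?_⟩
    rw [hlam, mul_pow, ← pow_mul]
    have : ((ε ^ N : Rˣ) : R) * ↑(ε ^ N)⁻¹ = 1 := Units.mul_inv _
    rw [Units.val_pow_eq_pow_val] at this
    linear_combination hc - ϖ ^ (m * N) * c * this
  intro j
  induction j with
  | zero => exact fun _ => ⟨1, v, by simp, by simpa using hstart⟩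
  | succ j ih =>
    intro hj
    obtain ⟨s, v', ⟨w, hw⟩, hs⟩ := ih (by omega)
    obtain ⟨r', hr'def⟩ : ∃ r' : R, r' = r * (s : R) ^ N := ⟨_, rfl⟩
    rw [← hr'def] at hs
    have hr' : IsUnit r' := hr'def ▸ r.isUnit.mul (s.isUnit.pow N)
    have hv : (1 : A) + π ^ j * w = v' := by rw [← hw]; ring
    have hla : lam = ((ε : R) * ϖ ^ (m - j)) * ϖ ^ j := by
      rw [mul_assoc, ← pow_add, Nat.sub_add_cancel (by omega), hlam]
    have hd := dvd_pow_sub (A := A) h hN hla
      (c := ϖ) (Dvd.dvd.mul_left (dvd_pow_self ϖ (by omega)) _) w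
    rw [map_pow (algebraMap R A) ϖ j, hv, map_mul, map_pow, map_pow, ← pow_mul] at hd
    obtain ⟨e, he⟩ := hd
    have hsmall : π ^ (j * N) * π ∣ algebraMap R A r' * (v' : A) ^ N - 1 := by
      refine dvd_trans ?_ hs
      rw [← pow_succ]
      refine pow_dvd_pow _ ?_
      have : (j + 1) * N ≤ m * N := Nat.mul_le_mul_right _ hj
      rw [Nat.add_mul, one_mul] at this
      omega
    obtain ⟨q, hq⟩ := hsmall
    have hmp : (π ^ j * w) ^ N = π ^ (j * N) * w ^ N := by rw [mul_pow, ← pow_mul]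
    have hρ : π ^ (j * N) ∣ algebraMap R A (r' - 1) :=
      ⟨π * q - algebraMap R A r' * (w ^ N + π * e), by
        rw [map_sub, map_one]
        linear_combination hq - algebraMap R A r' * he + algebraMap R A r' * hmp⟩
    obtain ⟨ρ, hρ'⟩ := hcomap _ _ hρ
    have hkey : π ∣ algebraMap R A ρ + algebraMap R A r' * w ^ N := by
      refine ⟨q - algebraMap R A r' * e, sub_eq_zero.1 (hreg (j * N) _ ?_)⟩
      have := congrArg (algebraMap R A) hρ'
      simp only [map_sub, map_one, map_mul, map_pow] at this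
      linear_combination hq - algebraMap R A r' * he + algebraMap R A r' * hmp - this
    -- an N-th root in the residue field
    haveI : PerfectRing (IsLocalRing.ResidueField R) p := PerfectField.toPerfectRing p
    obtain ⟨σ, hσ⟩ := (iterateFrobeniusEquiv (IsLocalRing.ResidueField R) p n).surjective
      (IsLocalRing.residue R (-ρ * ↑hr'.unit⁻¹))
    obtain ⟨s₁, rfl⟩ := IsLocalRing.residue_surjective σ
    rw [iterateFrobeniusEquiv_def, ← map_pow, ← sub_eq_zero, ← map_sub, IsLocalRing.residue_eq_zero_iff,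
      hϖ.maximalIdeal_eq, Ideal.mem_span_singleton] at hσ
    obtain ⟨t, ht⟩ := hσ
    have hru : r' * ↑hr'.unit⁻¹ = 1 := hr'.mul_val_inv
    have hws : π ∣ w ^ N - algebraMap R A s₁ ^ N := by
      obtain ⟨l, hl⟩ := hkey
      refine ⟨algebraMap R A ↑hr'.unit⁻¹ * l - algebraMap R A t, ?_⟩
      have h1 := congrArg (algebraMap R A) ht
      have h2 := congrArg (algebraMap R A) hru
      simp only [map_sub, map_pow, map_mul, map_neg, map_one] at h1 h2
      linear_combination (algebraMap R A ↑hr'.unit⁻¹) * hl - h1 - w ^ N * h2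
    have hsub : π ∣ w - algebraMap R A s₁ := by
      rw [← Ideal.mem_span_singleton] at hws ⊢
      refine hred _ N ?_
      haveI : Nontrivial (A ⧸ Ideal.span {π}) := Ideal.Quotient.nontrivial_iff.2 hne
      have hp0 : ((p : ℕ) : A ⧸ Ideal.span {π}) = 0 := by
        have : IsLocalRing.residue R (p : R) = 0 := by rw [map_natCast]; exact CharP.cast_eq_zero _ p
        rw [IsLocalRing.residue_eq_zero_iff, hϖ.maximalIdeal_eq, Ideal.mem_span_singleton] at this
        rw [← map_natCast (Ideal.Quotient.mk (Ideal.span {π})) p, Ideal.Quotient.eq_zero_iff_mem,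
          Ideal.mem_span_singleton, ← map_natCast (algebraMap R A) p]
        exact map_dvd (algebraMap R A) this
      haveI : CharP (A ⧸ Ideal.span {π}) p := (CharP.charP_iff_prime_eq_zero hp).2 hp0
      rw [← Ideal.Quotient.eq_zero_iff_mem, map_sub, map_pow, map_pow] at hws
      rw [← Ideal.Quotient.eq_zero_iff_mem, map_pow, map_sub, sub_pow_char_pow]
      exact hws
    have hS : IsUnit (1 + ϖ ^ j * s₁) := by
      by_contra hn
      have : ϖ ∣ 1 + ϖ ^ j * s₁ := by
        rw [← Ideal.mem_span_singleton, ← hϖ.maximalIdeal_eq]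
        exact (IsLocalRing.mem_maximalIdeal _).2 hn
      have h1 := map_dvd (algebraMap R A) this
      rw [map_add, map_one, map_mul, map_pow] at h1
      have h2 := dvd_add h1 (hsub.mul_left (π ^ j))
      rw [show 1 + π ^ j * algebraMap R A s₁ + π ^ j * (w - algebraMap R A s₁) = v' by rw [← hv]; ring] at h2
      exact hnu (isUnit_of_dvd_unit h2 v'.isUnit)
    obtain ⟨S, hS'⟩ := hS
    refine ⟨s * S, v' * (Units.map (algebraMap R A).toMonoidHom S)⁻¹, ?_, ?_⟩
    · obtain ⟨l, hl⟩ := hsub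
      refine ⟨algebraMap R A ↑S⁻¹ * l, ?_⟩
      have h1 := congrArg (algebraMap R A) hS'
      have h2 : algebraMap R A S * algebraMap R A ↑S⁻¹ = 1 := by rw [← map_mul, Units.mul_inv, map_one]
      simp only [map_add, map_one, map_mul, map_pow] at h1
      rw [Units.val_mul]
      show (v' : A) * algebraMap R A ↑S⁻¹ - 1 = _
      rw [← hv]
      linear_combination h2 - algebraMap R A ↑S⁻¹ * h1 + (π ^ j * algebraMap R A ↑S⁻¹) * hl
    · convert hs using 1
      have h2 : algebraMap R A S * algebraMap R A ↑S⁻¹ = 1 := by rw [← map_mul, Units.mul_inv, map_one]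
      show algebraMap R A (r * ((s * S : Rˣ) : R) ^ N) * ((v' : A) * algebraMap R A ↑S⁻¹) ^ N - 1 = _
      simp only [hr'def, Units.val_mul, map_mul, map_pow, mul_pow]
      linear_combination (algebraMap R A r * algebraMap R A s ^ N * (v' : A) ^ N) *
        ((mul_pow (algebraMap R A S) (algebraMap R A ↑S⁻¹) N).symm.trans (by rw [h2, one_pow]))

end Groth.Agent.SekTriv
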