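import Groth.Agent.SekTriv.Fibre
import Groth.Agent.SekTriv.Alg
import Groth.Agent.FinSect.Isom

/-!
`G_{λ,N}`-torsors whose push-forward comes from the base come from the base.
-/

set_option autoImplicit false
set_option linter.style.haveILetI false
set_option synthInstance.maxHeartbeats 400000
set_option maxHeartbeats 1600000

universe u

noncomputable section

open CategoryTheory Limits MonoidalCategory CartesianMonoidalCategory MonObj AlgebraicGeometry

namespace Groth.Agent.SekTriv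

open Groth.Agent.SekTorsor (fn fn_comp fn_SpecMap fn_toSpecΓ fn_ext scal scal_comp rfn rfn_comp)
open Groth.Agent.Torsor (smul)

variable {R : Type u} [CommRing R]

section Lift

/-- The Kummer torsor of a unit, with its action of `μ_N`. -/
def kumAct (N : ℕ) [NeZero N] (r : R) (hr : IsUnit (1 + (1 : R) ^ N * (r - 1))) :
    AlgGrp.Action (Red.diag R (ZMod N)) (Fib (1 : R) N (divCond_one N) (r - 1) hr) :=
  haveI := isIso_alphaN_one (R := R) N
  haveI := isMonHom_inv' (SekSuwa.alphaN R 1 N (divCond_one N))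
  (fact (1 : R) N (divCond_one N) (r - 1) hr).restrict (inv (SekSuwa.alphaN R 1 N (divCond_one N)))

variable {N : ℕ} [NeZero N] {r : R} {hr : IsUnit (1 + (1 : R) ^ N * (r - 1))}

theorem smul_kumAct [IsIso (SekSuwa.alphaN R 1 N (divCond_one N))] {T : Over (Spec (CommRingCat.of R))}
    (g : T ⟶ Red.diag R (ZMod N)) (x : T ⟶ Fib (1 : R) N (divCond_one N) (r - 1) hr) :
    smul (kumAct N r hr) g x =
      smul (fact (1 : R) N (divCond_one N) (r - 1) hr) (g ≫ inv (SekSuwa.alphaN R 1 N (divCond_one N))) x :=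
  haveI := isMonHom_inv' (SekSuwa.alphaN R 1 N (divCond_one N))
  AlgGrp.Action.lift_restrict_act (inv (SekSuwa.alphaN R 1 N (divCond_one N)))
    (fact (1 : R) N (divCond_one N) (r - 1) hr) g x

theorem qfn_kumAct {T : Over (Spec (CommRingCat.of R))} (g : T ⟶ Red.diag R (ZMod N))
    (x : T ⟶ Fib (1 : R) N (divCond_one N) (r - 1) hr) :
    1 + qfn (smul (kumAct N r hr) g x) = zfn g * (1 + qfn x) := by
  haveI := isIso_alphaN_one (R := R) N
  have := zfn_alphaN (h := divCond_one (R := R) N) (g ≫ inv (SekSuwa.alphaN R 1 N (divCond_one N)))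
  rw [map_one, _root_.one_mul, Category.assoc, IsIso.inv_hom_id, Category.comp_id] at this
  rw [smul_kumAct, qfn_smul, map_one, this]
  ring

theorem isPseudoTorsor_kumAct : NonAbH1.IsPseudoTorsorSch (kumAct N r hr) := by
  haveI := isIso_alphaN_one (R := R) N
  rw [Torsor.isPseudoTorsor_iff]
  intro T x z
  obtain ⟨k, hk, hku⟩ := (Torsor.isPseudoTorsor_iff _).1
    (isPseudoTorsor_fact (lam := (1 : R)) (N := N) (h := divCond_one N) (c := r - 1) (hc := hr)) T x z
  refine ⟨k ≫ SekSuwa.alphaN R 1 N (divCond_one N), ?_, fun g hg => ?_⟩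
  · show smul (kumAct N r hr) _ x = z
    rw [smul_kumAct, Category.assoc, IsIso.hom_inv_id, Category.comp_id]
    exact hk
  · have : g ≫ inv (SekSuwa.alphaN R 1 N (divCond_one N)) = k := hku _ ((smul_kumAct g x).symm.trans hg)
    rw [← this, Category.assoc, IsIso.inv_hom_id, Category.comp_id]

theorem exists_point_kum {T : Over (Spec (CommRingCat.of R))} (z : Γ(T.left, ⊤)) (hz : z ^ N = sc T r) :
    ∃ x : T ⟶ Fib (1 : R) N (divCond_one N) (r - 1) hr, ∀ (T' : Over (Spec (CommRingCat.of R))) (l : T' ⟶ T),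
      1 + qfn (l ≫ x) = l.left.appTop z := by
  have hr' : IsUnit r := by simpa using hr
  obtain ⟨x, hx⟩ := exists_qfn (h := divCond_one (R := R) N) (c := r - 1) (hc := hr) (z - 1)
    (by
      rw [map_one, _root_.one_mul, add_sub_cancel]
      exact (isUnit_pow_iff (NeZero.ne N)).1 (hz ▸ hr'.map _))
    (by
      have := psiPoly_spec' (T := T) (h := divCond_one (R := R) N) (z - 1)
      rw [one_pow, map_one, _root_.one_mul, _root_.one_mul, add_sub_cancel, hz] at this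
      rw [this, map_sub, map_one])
  refine ⟨x, fun T' l => ?_⟩
  show 1 + rfn ((l ≫ x) ≫ _) = _
  rw [Category.assoc, rfn_comp, show rfn (x ≫ pullback.fst _ _) = z - 1 from hx, map_sub, map_one, add_sub_cancel]

theorem exists_iso_kum (Q' : Over (Spec (CommRingCat.of R))) (b' : AlgGrp.Action (Red.diag R (ZMod N)) Q')
    (hQ' : NonAbH1.IsTorsorFor Scheme.fppfPrecoverage b') (y : Γ(Q'.left, ⊤))
    (hy : y ^ N = sc Q' r)
    (heq : ∀ (T : Over (Spec (CommRingCat.of R))) (g : T ⟶ Red.diag R (ZMod N)) (x : T ⟶ Q'),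
      (smul b' g x).left.appTop y = zfn g * x.left.appTop y) :
    ∃ E : Q' ⟶ Fib (1 : R) N (divCond_one N) (r - 1) hr, IsIso E ∧
      AlgGrp.Action.IsEquivariant b' (kumAct N r hr) E := by
  obtain ⟨E, hE⟩ := exists_point_kum (hr := hr) y hy
  have hEeq : AlgGrp.Action.IsEquivariant b' (kumAct N r hr) E := by
    have h0 : smul b' (fst (Red.diag R (ZMod N)) Q') (snd _ Q') ≫ E =
        smul (kumAct N r hr) (fst (Red.diag R (ZMod N)) Q') (snd _ Q' ≫ E) := by
      refine qfn_ext ((add_right_inj (1 : Γ((Red.diag R (ZMod N) ⊗ Q').left, ⊤))).1 ?_)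
      rw [hE, qfn_kumAct, hE, heq]
    show b'.act ≫ E = (Red.diag R (ZMod N) ◁ E) ≫ (kumAct N r hr).act
    rw [show (Red.diag R (ZMod N) ◁ E) = lift (fst (Red.diag R (ZMod N)) Q') (snd _ Q' ≫ E) by
      apply CartesianMonoidalCategory.hom_ext <;> simp]
    refine Eq.trans ?_ h0
    rw [Torsor.smul, lift_fst_snd, Category.id_comp]
  exact ⟨E, Torsor.isIso_of_isEquivariant (FinSect.fpqc_of_fppf hQ') isPseudoTorsor_kumAct E hEeq, hEeq⟩

theorem exists_push_kum {lam : R} (h : SekSuwa.DivCond lam N) (s : Rˣ) (c : R)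
    (hc : IsUnit (1 + lam ^ N * c)) (hs : r * (s : R) ^ N = 1 + lam ^ N * c) :
    ∃ χ : Fib lam N h c hc ⟶ Fib (1 : R) N (divCond_one N) (r - 1) hr,
      (fact lam N h c hc).act ≫ χ =
        smul (kumAct N r hr) (fst _ _ ≫ SekSuwa.alphaN R lam N h) (snd _ _ ≫ χ) := by
  have hz₀ : ((1 + sc (Fib lam N h c hc) lam * qfn (𝟙 (Fib lam N h c hc))) *
      sc (Fib lam N h c hc) ↑s⁻¹) ^ N = sc (Fib lam N h c hc) r := by
    rw [mul_pow, qfn_pow, ← map_pow, ← map_mul, ← hs]
    congr 1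
    rw [_root_.mul_assoc, ← mul_pow, Units.mul_inv, one_pow, _root_.mul_one]
  obtain ⟨χ, hχ⟩ := exists_point_kum (hr := hr) _ hz₀
  refine ⟨χ, ?_⟩
  have hχ' : ∀ {T : Over (Spec (CommRingCat.of R))} (x : T ⟶ Fib lam N h c hc),
      1 + qfn (x ≫ χ) = (1 + sc T lam * qfn x) * sc T ↑s⁻¹ := by
    intro T x
    rw [hχ, map_mul, map_add, map_one, map_mul, sc_comp, sc_comp]
    congr 3
  have e : (fact lam N h c hc).act = smul (fact lam N h c hc) (fst _ _) (snd _ _) := by
    rw [Torsor.smul, lift_fst_snd, Category.id_comp]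
  rw [e]
  refine qfn_ext ((add_right_inj (1 : Γ((SekSuwa.GK R lam N h ⊗ Fib lam N h c hc).left, ⊤))).1 ?_)
  rw [hχ', qfn_kumAct, hχ', qfn_smul, zfn_alphaN]
  ring

/-- A torsor under `G_{λ,N}` over a given Kummer torsor. -/
theorem exists_lift_torsor {lam : R} (h : SekSuwa.DivCond lam N)
    (Q' : Over (Spec (CommRingCat.of R))) (b' : AlgGrp.Action (Red.diag R (ZMod N)) Q')
    (hQ' : NonAbH1.IsTorsorFor Scheme.fppfPrecoverage b') (r : Rˣ) (y : Γ(Q'.left, ⊤)ˣ)
    (hy : (y : Γ(Q'.left, ⊤)) ^ N = sc Q' r)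
    (heq : ∀ (T : Over (Spec (CommRingCat.of R))) (g : T ⟶ Red.diag R (ZMod N)) (x : T ⟶ Q'),
      (smul b' g x).left.appTop (y : Γ(Q'.left, ⊤)) = zfn g * x.left.appTop (y : Γ(Q'.left, ⊤)))
    (s : Rˣ) (c : R) (hs : (r : R) * (s : R) ^ N = 1 + lam ^ N * c) :
    ∃ (Q : Over (Spec (CommRingCat.of R))) (b : AlgGrp.Action (SekSuwa.GK R lam N h) Q),
      NonAbH1.IsTorsorFor Scheme.fppfPrecoverage b ∧
      ∃ ψ : Q ⟶ Q', b.act ≫ ψ = lift (fst _ Q ≫ SekSuwa.alphaN R lam N h) (snd _ Q ≫ ψ) ≫ b'.act := by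
  have hc : IsUnit (1 + lam ^ N * c) := hs ▸ r.isUnit.mul (s.isUnit.pow N)
  have hr : IsUnit (1 + (1 : R) ^ N * ((r : R) - 1)) := by
    rw [one_pow, _root_.one_mul, add_sub_cancel]
    exact r.isUnit
  obtain ⟨E, hiso, hEeq⟩ := exists_iso_kum (hr := hr) Q' b' hQ' (y : Γ(Q'.left, ⊤)) hy heq
  obtain ⟨χ, hχ⟩ := exists_push_kum (hr := hr) h s c hc hs
  refine ⟨Fib lam N h c hc, fact lam N h c hc, isTorsor_fact (Nat.pos_of_ne_zero (NeZero.ne N)), χ ≫ inv E, ?_⟩
  rw [← cancel_mono E]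
  simp only [Category.assoc, IsIso.inv_hom_id, Category.comp_id]
  have hb : b'.act ≫ E = (Red.diag R (ZMod N) ◁ E) ≫ (kumAct N (r : R) hr).act := hEeq
  rw [hb, ← Category.assoc (lift _ _), lift_whiskerLeft, Category.assoc, Category.assoc, IsIso.inv_hom_id,
    Category.comp_id]
  exact hχ

end Lift

section Main

variable {X : Scheme.{u}} {f : X ⟶ Spec (CommRingCat.of R)}

theorem psiPoly_add {lam : R} {N : ℕ} (h : SekSuwa.DivCond lam N) {B : Type*} [CommRing B] (φ : R →+* B) (x y : B) :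
    (SekSuwa.psiPoly lam N h).eval₂ φ (x + y + φ lam * x * y) =
      (SekSuwa.psiPoly lam N h).eval₂ φ x + (SekSuwa.psiPoly lam N h).eval₂ φ y +
        φ (lam ^ N) * (SekSuwa.psiPoly lam N h).eval₂ φ x * (SekSuwa.psiPoly lam N h).eval₂ φ y := by
  letI : Algebra R B := φ.toAlgebra
  have := congrArg (MvPolynomial.aeval (R := R) ![x, y]) (SekSuwa.psiPoly_cocycle h)
  simp only [← Polynomial.aeval_algHom_apply, map_add, map_mul, MvPolynomial.aeval_X, MvPolynomial.aeval_C] at this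
  simpa [Polynomial.aeval_def, RingHom.algebraMap_toAlgebra] using this

variable [IsDomain R] [IsDiscreteValuationRing R]

/-- The unit classifying the Kummer torsor becomes `≡ 1 mod λ^N` up to `N`-th powers. -/
theorem exists_root_of_torsor (p : ℕ) [Fact p.Prime] [CharP (IsLocalRing.ResidueField R) p]
    [PerfectField (IsLocalRing.ResidueField R)] (n : ℕ) [NeZero (p ^ n)] {lam : R} (h : SekSuwa.DivCond lam (p ^ n))
    [Flat f] [Surjective f] [IsReduced (Limits.pullback f (Spec.map (CommRingCat.ofHom (IsLocalRing.residue R))))]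
    (P : Over X) (a : AlgGrp.Action (Red.bc f (SekSuwa.GK R lam (p ^ n) h)) P)
    (hP : NonAbH1.IsTorsorFor Scheme.fppfPrecoverage a)
    (Q' : Over (Spec (CommRingCat.of R))) (b' : AlgGrp.Action (Red.diag R (ZMod (p ^ n))) Q')
    (θ : P ⟶ Red.bc f Q')
    (hθ : a.act ≫ θ = lift (fst _ P ≫ (Over.pullback f).map (SekSuwa.alphaN R lam (p ^ n) h)) (snd _ P ≫ θ) ≫
      (b'.bc f).act)
    (r : Rˣ) (y : Γ(Q'.left, ⊤)ˣ) (hy : (y : Γ(Q'.left, ⊤)) ^ (p ^ n) = sc Q' r)
    (heq : ∀ (T : Over (Spec (CommRingCat.of R))) (g : T ⟶ Red.diag R (ZMod (p ^ n))) (x : T ⟶ Q'),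
      (smul b' g x).left.appTop (y : Γ(Q'.left, ⊤)) = zfn g * x.left.appTop (y : Γ(Q'.left, ⊤))) :
    ∃ (s : Rˣ) (c₀ : R), (r : R) * (s : R) ^ (p ^ n) = 1 + lam ^ (p ^ n) * c₀ := by
  obtain ⟨⟨hfinK, hflatK, -⟩, -⟩ := S14694.result R lam (p ^ n) (Nat.pos_of_ne_zero (NeZero.ne _)) h
  haveI : IsFinite (Red.bc f (SekSuwa.GK R lam (p ^ n) h)).hom := by
    show IsFinite (pullback.snd _ _)
    exact MorphismProperty.pullback_snd _ _ hfinK
  haveI : Flat (Red.bc f (SekSuwa.GK R lam (p ^ n) h)).hom := by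
    show Flat (pullback.snd _ _)
    exact MorphismProperty.pullback_snd _ _ hflatK
  haveI : IsAffineHom (SekSuwa.GK R lam (p ^ n) h).hom := by
    haveI := hfinK
    infer_instance
  haveI : IsFinite P.hom := FinSect.isFinite_torsor hP
  haveI : Flat P.hom := Torsor.of_isTorsorFor (FinSect.fpqc_of_fppf hP) @Flat ‹_›
  haveI : Surjective P.hom := Torsor.surjective_of_isTorsorFor (FinSect.fpqc_of_fppf hP)
  obtain ⟨s₀, hs₀⟩ := f.surjective (IsLocalRing.closedPoint R)
  obtain ⟨V, hsV, hV, b₀, hb₀, hb⟩ := exists_coord (f := f) (SekSuwa.incl R lam (p ^ n) h) a hP s₀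
  let W₀ : Over X := Over.mk V.ι
  let L : Over X := W₀ ⊗ P
  let π := (fst W₀ P).left
  haveI : Flat π := MorphismProperty.pullback_fst (P := @Flat) V.ι P.hom ‹_›
  haveI : Surjective π := MorphismProperty.pullback_fst (P := @Surjective) V.ι P.hom ‹_›
  haveI : QuasiCompact π := MorphismProperty.pullback_fst (P := @QuasiCompact) V.ι P.hom inferInstance
  -- the point of the Kummer torsor of a point of `P`
  let tQ {W : Over X} (x : W ⟶ P) : (Over.map f).obj W ⟶ Q' :=
    ((Over.mapPullbackAdj f).homEquiv W Q').symm (x ≫ θ)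
  have htQ : ∀ {W : Over X} (g : (Over.map f).obj W ⟶ SekSuwa.GK R lam (p ^ n) h) (x : W ⟶ P),
      tQ (smul a (up g) x) = smul b' (g ≫ SekSuwa.alphaN R lam (p ^ n) h) (tQ x) := by
    intro W g x
    apply ((Over.mapPullbackAdj f).homEquiv W Q').injective
    simp only [tQ, Equiv.apply_symm_apply]
    show (lift (up g) x ≫ a.act) ≫ θ = _
    rw [Category.assoc, hθ, ← Category.assoc, comp_lift, lift_fst_assoc, lift_snd_assoc]
    refine Eq.trans ?_ (AlgGrp.Action.lift_homEquiv_bc_act _ b' _ _)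
    rw [Equiv.apply_symm_apply, (Over.mapPullbackAdj f).homEquiv_naturality_right]
  have htQnat : ∀ {W W' : Over X} (l : W' ⟶ W) (x : W ⟶ P), tQ (l ≫ x) = (Over.map f).map l ≫ tQ x := by
    intro W W' l x
    simp only [tQ, Category.assoc]
    exact (Over.mapPullbackAdj f).homEquiv_naturality_left_symm _ _
  let yf {W : Over X} (x : W ⟶ P) : Γ(W.left, ⊤) := (tQ x).left.appTop (y : Γ(Q'.left, ⊤))
  have hynat : ∀ {W W' : Over X} (l : W' ⟶ W) (x : W ⟶ P), yf (l ≫ x) = l.left.appTop (yf x) := by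
    intro W W' l x
    show (tQ (l ≫ x)).left.appTop _ = _
    rw [htQnat]
    rfl
  let Y : Γ(L.left, ⊤) := yf (snd W₀ P)
  have hYu : IsUnit Y := y.isUnit.map (tQ (snd W₀ P)).left.appTop.hom
  have hYN : Y ^ (p ^ n) = scal f L (r : R) := by
    show (tQ (snd W₀ P)).left.appTop (y : Γ(Q'.left, ⊤)) ^ _ = _
    rw [← map_pow, hy]
    exact sc_comp (tQ (snd W₀ P)) (r : R)
  let z : Γ(L.left, ⊤) := 1 + scal f L lam * b₀
  let C : Γ(L.left, ⊤) := (SekSuwa.psiPoly lam (p ^ n) h).eval₂ (scal f L) b₀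
  have hzN : z ^ (p ^ n) = 1 + scal f L (lam ^ (p ^ n)) * C := by
    letI : Algebra R Γ(L.left, ⊤) := (scal f L).toAlgebra
    have := SekSuwa.aeval_psiPoly h b₀
    exact eq_add_of_sub_eq' this.symm
  obtain ⟨Yinv, hYinv⟩ := hYu.exists_right_inv
  have hFu : IsUnit (z * Yinv) := hb₀.mul (IsUnit.of_mul_eq_one_right _ hYinv)
  -- invariance
  have hinv : ∀ {Z : Scheme.{u}} (g₁ g₂ : Z ⟶ L.left), g₁ ≫ π = g₂ ≫ π →
      g₁.appTop (hFu.unit : Γ(L.left, ⊤)) = g₂.appTop (hFu.unit : Γ(L.left, ⊤)) ∧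
        g₁.appTop C = g₂.appTop C := by
    intro Z g₁ g₂ hg
    let W : Over X := Over.mk (g₁ ≫ L.hom)
    let l₁ : W ⟶ L := Over.homMk g₁ rfl
    let l₂ : W ⟶ L := Over.homMk g₂ (by
      show g₂ ≫ L.hom = g₁ ≫ L.hom
      rw [← Over.w (fst W₀ P), ← Category.assoc, ← Category.assoc, hg])
    have hv : l₁ ≫ fst W₀ P = l₂ ≫ fst W₀ P := Over.OverMorphism.ext hg
    obtain ⟨gX, hgX, -⟩ := (Torsor.isPseudoTorsor_iff a).1 hP.1 W (l₁ ≫ snd _ _) (l₂ ≫ snd _ _)
    let g := ((Over.mapPullbackAdj f).homEquiv W (SekSuwa.GK R lam (p ^ n) h)).symm gX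
    have hg' : up g = gX := Equiv.apply_symm_apply _ _
    rw [← hg'] at hgX
    have hbW := hb W (l₁ ≫ fst W₀ P) g (l₁ ≫ snd W₀ P)
    rw [hgX] at hbW
    rw [show lift (l₁ ≫ fst W₀ P) (l₂ ≫ snd W₀ P) = l₂ by rw [hv, ← comp_lift, lift_fst_snd, Category.comp_id],
      show lift (l₁ ≫ fst W₀ P) (l₁ ≫ snd W₀ P) = l₁ by rw [← comp_lift, lift_fst_snd, Category.comp_id]] at hbW
    set β : Γ(W.left, ⊤) := pfn (g ≫ SekSuwa.incl R lam (p ^ n) h) with hβ
    have hz₂ : l₂.left.appTop z = (1 + scal f W lam * β) * l₁.left.appTop z := by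
      simp only [z, map_add, map_one, map_mul, scal_comp, hbW]
      ring
    have hY₂ : l₂.left.appTop Y = (1 + scal f W lam * β) * l₁.left.appTop Y := by
      show l₂.left.appTop (yf (snd W₀ P)) = _ * l₁.left.appTop (yf (snd W₀ P))
      rw [← hynat, ← hynat, ← hgX]
      have e : (tQ (smul a (up g) (l₁ ≫ snd W₀ P))).left.appTop (y : Γ(Q'.left, ⊤)) =
          zfn (g ≫ SekSuwa.alphaN R lam (p ^ n) h) * (tQ (l₁ ≫ snd W₀ P)).left.appTop (y : Γ(Q'.left, ⊤)) := by
        rw [htQ, heq]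
      rw [zfn_alphaN] at e
      exact e
    constructor
    · rw [IsUnit.unit_spec]
      refine (hYu.map l₂.left.appTop.hom).mul_right_cancel ?_
      have h1 : l₁.left.appTop Y * l₁.left.appTop Yinv = 1 := by rw [← map_mul, hYinv, map_one]
      have h2 : l₂.left.appTop Y * l₂.left.appTop Yinv = 1 := by rw [← map_mul, hYinv, map_one]
      show l₁.left.appTop (z * Yinv) * l₂.left.appTop Y = l₂.left.appTop (z * Yinv) * l₂.left.appTop Y
      rw [map_mul, map_mul]
      linear_combination (l₁.left.appTop z * l₁.left.appTop Yinv) * hY₂ + ((1 + scal f W lam * β) * l₁.left.appTop z) * h1 -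
        l₂.left.appTop z * h2 - hz₂
    · have hC : ∀ (l : W ⟶ L), l.left.appTop C =
          (SekSuwa.psiPoly lam (p ^ n) h).eval₂ (scal f W) (l.left.appTop b₀) := fun l => by
        rw [show C = (SekSuwa.psiPoly lam (p ^ n) h).eval₂ (scal f L) b₀ from rfl, Polynomial.hom_eval₂]
        congr 1
        exact RingHom.ext fun q => scal_comp l q
      show l₁.left.appTop C = l₂.left.appTop C
      rw [hC, hC, hbW, psiPoly_add,
        show (SekSuwa.psiPoly lam (p ^ n) h).eval₂ (scal f W) β = 0 from eval_kfn g]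
      ring
  obtain ⟨v, hv⟩ := exists_desc_unit π hFu.unit fun g₁ g₂ hg => (hinv g₁ g₂ hg).1
  obtain ⟨c, hc⟩ := exists_desc_fun π C fun g₁ g₂ hg => (hinv g₁ g₂ hg).2
  -- the algebra of functions on the affine open
  haveI : IsAffine (V : Scheme.{u}) := hV
  let A := Γ(W₀.left, ⊤)
  haveI : IsAffine W₀.left := hV
  letI : Algebra R A := (scal f W₀).toAlgebra
  have hrv : algebraMap R A (lam ^ (p ^ n)) * c = algebraMap R A r * (v : A) ^ (p ^ n) - 1 := by
    refine appTop_injective π ?_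
    rw [map_sub, map_one, map_mul, map_mul, map_pow π.appTop.hom (v : A)]
    show π.appTop (scal f W₀ _) * π.appTop c = π.appTop (scal f W₀ _) * π.appTop (v : A) ^ _ - 1
    rw [hc, hv, scal_comp (fst W₀ P), scal_comp (fst W₀ P), IsUnit.unit_spec]
    have h1 : Y ^ (p ^ n) * Yinv ^ (p ^ n) = 1 := by rw [← mul_pow, hYinv, one_pow]
    rw [hYN] at h1
    linear_combination -(scal f L (r : R)) * (mul_pow z Yinv (p ^ n)) - z ^ (p ^ n) * h1 - hzN
  obtain ⟨ϖ, hϖ⟩ := IsDiscreteValuationRing.exists_irreducible R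
  haveI : Module.Flat R A := by
    let g := V.ι ≫ f
    have hφ : g.appTop.hom.Flat := by
      rw [show g.appTop = g.app ⊤ from rfl, Scheme.Hom.app_eq_appLE]
      exact g.flat_appLE (isAffineOpen_top _) (isAffineOpen_top _) _
    exact RingHom.Flat.comp
      (RingHom.Flat.of_bijective (Scheme.ΓSpecIso (CommRingCat.of R)).symm.commRingCatIsoToRingEquiv.bijective) hφ
  refine exists_root_unit (A := A) p n h hϖ ?_ ?_ r v ⟨c, hrv.symm⟩
  · rw [Ne, Ideal.span_singleton_eq_top]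
    intro hu
    have h2 : (V.ι ≫ f) ⁻¹ᵁ ((Spec (CommRingCat.of R)).basicOpen ((Scheme.ΓSpecIso (CommRingCat.of R)).inv ϖ)) = ⊤ := by
      rw [Scheme.preimage_basicOpen_top]
      exact Scheme.basicOpen_of_isUnit _ hu
    rw [basicOpen_eq_of_affine] at h2
    have h3 : (⟨s₀, hsV⟩ : V) ∈ (V.ι ≫ f) ⁻¹ᵁ PrimeSpectrum.basicOpen ϖ := by rw [h2]; trivial
    have h4 : IsLocalRing.closedPoint R ∈ PrimeSpectrum.basicOpen ϖ := by rw [← hs₀]; exact h3
    exact h4 ((IsLocalRing.mem_maximalIdeal _).2 hϖ.not_isUnit)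
  · intro z₁ k hk
    obtain ⟨a₁, ha₁⟩ := Ideal.mem_span_singleton'.1 hk
    obtain ⟨b₁, hb₁⟩ := exists_mul_of_restrict (lam := ϖ) (V.ι ≫ f) z₁ fun Z q hq => by
      let k0 := Spec.map (CommRingCat.ofHom (IsLocalRing.residue R))
      obtain ⟨l, hl⟩ : ∃ l : Z ⟶ Spec (CommRingCat.of (IsLocalRing.ResidueField R)), (q ≫ V.ι) ≫ f = l ≫ k0 := by
        refine ⟨Z.toSpecΓ ≫ Spec.map (CommRingCat.ofHom
          (Ideal.Quotient.lift (IsLocalRing.maximalIdeal R) (fn (A := R) ((q ≫ V.ι) ≫ f)) fun t ht => ?_)), fn_ext ?_⟩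
        · rw [hϖ.maximalIdeal_eq] at ht
          obtain ⟨t, rfl⟩ := Ideal.mem_span_singleton'.1 ht
          rw [map_mul, show fn (A := R) ((q ≫ V.ι) ≫ f) ϖ = 0 by rw [Category.assoc]; exact hq, mul_zero]
        · rw [fn_SpecMap, fn_toSpecΓ]
          exact RingHom.ext fun t => rfl
      let Xk := pullback f k0
      let Vk : Xk.Opens := (pullback.fst f k0) ⁻¹ᵁ V
      let q₁ : Z ⟶ Xk := pullback.lift (q ≫ V.ι) l hl
      have hrange : Set.range q₁ ⊆ Set.range Vk.ι := by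
        rintro _ ⟨t, rfl⟩
        rw [Scheme.Opens.range_ι]
        show pullback.fst f k0 (q₁ t) ∈ V
        rw [← Scheme.Hom.comp_apply, show q₁ ≫ pullback.fst f k0 = q ≫ V.ι from pullback.lift_fst _ _ _,
          Scheme.Hom.comp_apply]
        exact (q t).2
      let q₂ := IsOpenImmersion.lift Vk.ι q₁ hrange
      have hq₂ : q = q₂ ≫ (pullback.fst f k0 ∣_ V) := by
        rw [← cancel_mono V.ι, Category.assoc, morphismRestrict_ι, IsOpenImmersion.lift_fac_assoc, pullback.lift_fst]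
      haveI : IsReduced Xk := ‹IsReduced (Limits.pullback f (Spec.map (CommRingCat.ofHom (IsLocalRing.residue R))))›
      haveI : IsReduced (Vk : Scheme.{u}) := isReduced_of_isOpenImmersion Vk.ι
      have h0 : fn (A := R) ((pullback.fst f k0 ∣_ V) ≫ V.ι ≫ f) ϖ = 0 := by
        rw [morphismRestrict_ι_assoc, pullback.condition, ← Category.assoc, fn_SpecMap]
        rw [RingHom.comp_apply]
        rw [(IsLocalRing.residue_eq_zero_iff _).2 ((IsLocalRing.mem_maximalIdeal _).2 hϖ.not_isUnit), map_zero]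
      have h1 : (pullback.fst f k0 ∣_ V).appTop z₁ = 0 := by
        refine (IsNilpotent.eq_zero ⟨k, ?_⟩)
        rw [← map_pow, ← ha₁, map_mul]
        show _ * (pullback.fst f k0 ∣_ V).appTop (fn (A := R) (V.ι ≫ f) ϖ) = 0
        rw [← fn_comp, h0, mul_zero]
      rw [hq₂, Scheme.Hom.comp_appTop]
      show q₂.appTop ((pullback.fst f k0 ∣_ V).appTop z₁) = 0
      rw [h1, map_zero]
    exact Ideal.mem_span_singleton.2 ⟨b₁, hb₁⟩

/-- An equivariant morphism over a homomorphism which is invertible over `q` is invertible over `q`. -/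
theorem isIso_pullback_of_push {T S : Scheme.{u}} (q : T ⟶ S) {G G' P P' : Over S} [GrpObj G] [GrpObj G']
    (g : G ⟶ G') (hg : IsIso ((Over.pullback q).map g)) {a : AlgGrp.Action G P}
    (hP : NonAbH1.IsTorsorFor Scheme.fppfPrecoverage a) {a' : AlgGrp.Action G' P'}
    (hP' : NonAbH1.IsPseudoTorsorSch a') (φ : P ⟶ P')
    (hφ : a.act ≫ φ = lift (fst G P ≫ g) (snd G P ≫ φ) ≫ a'.act) :
    IsIso ((Over.pullback q).map φ) := by
  obtain ⟨hiso, R, hR, hs⟩ := FinSect.fpqc_of_fppf hP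
  have heq : ∀ {U : Over S} (cc : U ⟶ G) (x : U ⟶ P), smul a cc x ≫ φ = smul a' (cc ≫ g) (x ≫ φ) := by
    intro U cc x
    show (lift cc x ≫ a.act) ≫ φ = lift _ _ ≫ a'.act
    rw [Category.assoc, hφ, ← Category.assoc, comp_lift, lift_fst_assoc, lift_snd_assoc]
  have : IsIso (Over.mk q ◁ φ) := by
    refine Torsor.isIso_of_local _ hR fun S' i hi U t b => ?_
    obtain ⟨σ, hσ⟩ := hs i hi
    let x₀ : U ⟶ P := t ≫ Over.homMk σ hσ
    obtain ⟨δ, hδ, hδu⟩ := (Torsor.isPseudoTorsor_iff a').1 hP' U (x₀ ≫ φ) (b ≫ snd _ _)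
    obtain ⟨hinj, hsurj⟩ := FinSect.bijective_points q g hg (b ≫ fst _ _)
    obtain ⟨cc, hcc⟩ := hsurj δ
    refine ⟨lift (b ≫ fst _ _) (smul a cc x₀), ?_, fun z hz => ?_⟩
    · show lift (b ≫ fst _ _) (smul a cc x₀) ≫ (Over.mk q ◁ φ) = b
      rw [lift_whiskerLeft, heq, show cc ≫ g = δ from hcc, hδ, lift_comp_fst_snd]
    · obtain ⟨cc', hcc', -⟩ := (Torsor.isPseudoTorsor_iff a).1 hiso U x₀ (z ≫ snd _ _)
      have h1 : z ≫ fst _ _ = b ≫ fst _ _ := by rw [← hz, Category.assoc, whiskerLeft_fst]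
      have h2 : smul a' (cc' ≫ g) (x₀ ≫ φ) = b ≫ snd _ _ := by
        rw [← heq, hcc', ← hz, Category.assoc, Category.assoc, whiskerLeft_snd]
      have h3 : cc' = cc := hinj ((hδu _ h2).trans hcc.symm)
      apply CartesianMonoidalCategory.hom_ext
      · rw [lift_fst, h1]
      · rw [lift_snd, ← h3, hcc']
  let adj := Over.mapPullbackAdj q
  refine isIso_of_yoneda_map_bijective _ fun U => ?_
  let v : (Over.map q).obj U ⟶ Over.mk q := Over.homMk U.hom rfl
  have hv : ∀ w : (Over.map q).obj U ⟶ Over.mk q ⊗ P', w ≫ fst _ _ = v → lift v (w ≫ snd _ _) = w := fun w hw => by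
    rw [← hw, lift_comp_fst_snd]
  refine ⟨fun x y hxy => ?_, fun w => ?_⟩
  · apply (adj.homEquiv _ _).symm.injective
    have h1 : (adj.homEquiv _ _).symm x ≫ φ = (adj.homEquiv _ _).symm y ≫ φ := by
      rw [← adj.homEquiv_naturality_right_symm, ← adj.homEquiv_naturality_right_symm]
      exact congrArg _ hxy
    have h2 : lift v ((adj.homEquiv _ _).symm x) ≫ (Over.mk q ◁ φ) = lift v ((adj.homEquiv _ _).symm y) ≫ (Over.mk q ◁ φ) := by
      rw [lift_whiskerLeft, lift_whiskerLeft, h1]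
    rw [cancel_mono] at h2
    simpa using congrArg (· ≫ snd _ _) h2
  · let z := lift v ((adj.homEquiv _ _).symm w) ≫ inv (Over.mk q ◁ φ)
    refine ⟨adj.homEquiv _ _ (z ≫ snd _ _), ?_⟩
    show adj.homEquiv _ _ (z ≫ snd _ _) ≫ (Over.pullback q).map φ = w
    rw [← adj.homEquiv_naturality_right, ← (adj.homEquiv _ _).eq_symm_apply]
    have : z ≫ (Over.mk q ◁ φ) = lift v ((adj.homEquiv _ _).symm w) := by
      simp only [z, Category.assoc, IsIso.inv_hom_id, Category.comp_id]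
    have h3 := congrArg (· ≫ snd _ _) this
    simp only [Category.assoc, whiskerLeft_snd, lift_snd] at h3
    rw [Category.assoc, h3]

/-- Base change of equivariance along a homomorphism. -/
theorem push_bc {S S' : Scheme.{u}} (q : S' ⟶ S) {G G' P P' : Over S} [GrpObj G] [GrpObj G']
    (g : G ⟶ G') {a : AlgGrp.Action G P} {a' : AlgGrp.Action G' P'} (φ : P ⟶ P')
    (hφ : a.act ≫ φ = lift (fst G P ≫ g) (snd G P ≫ φ) ≫ a'.act) :
    (a.bc q).act ≫ (Over.pullback q).map φ =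
      lift (fst (Red.bc q G) (Red.bc q P) ≫ (Over.pullback q).map g) (snd _ _ ≫ (Over.pullback q).map φ) ≫
        (a'.bc q).act := by
  have e : ∀ {C : Type (u + 1)} [Category.{u} C] [CartesianMonoidalCategory C] {A B A' B' : C} (g : A ⟶ A') (φ : B ⟶ B'),
      lift (fst A B ≫ g) (snd A B ≫ φ) = g ⊗ₘ φ := fun g φ => by
    apply CartesianMonoidalCategory.hom_ext <;> simp
  rw [e, AlgGrp.Action.bc_act, AlgGrp.Action.bc_act, Functor.LaxMonoidal.μ_natural_assoc, ← Functor.map_comp, ← e,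
    ← hφ, Category.assoc, ← Functor.map_comp]

/-- **Torsors whose push-forward comes from the base come from the base.** -/
theorem exists_descent (p : ℕ) [Fact p.Prime] [CharP (IsLocalRing.ResidueField R) p]
    [PerfectField (IsLocalRing.ResidueField R)] (n : ℕ) [NeZero (p ^ n)] {lam : R} (h : SekSuwa.DivCond lam (p ^ n))
    [IsIntegral X] (hX : Pi1.IsNormalScheme X)
    [Flat f] [Surjective f] [IsReduced (Limits.pullback f (Spec.map (CommRingCat.ofHom (IsLocalRing.residue R))))]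
    (P : Over X) (a : AlgGrp.Action (Red.bc f (SekSuwa.GK R lam (p ^ n) h)) P)
    (hP : NonAbH1.IsTorsorFor Scheme.fppfPrecoverage a)
    (Q' : Over (Spec (CommRingCat.of R))) (b' : AlgGrp.Action (Red.diag R (ZMod (p ^ n))) Q')
    (hQ' : NonAbH1.IsTorsorFor Scheme.fppfPrecoverage b')
    (θ : P ⟶ Red.bc f Q')
    (hθ : a.act ≫ θ = lift (fst _ P ≫ (Over.pullback f).map (SekSuwa.alphaN R lam (p ^ n) h)) (snd _ P ≫ θ) ≫
      (b'.bc f).act) :
    ∃ (Q : Over (Spec (CommRingCat.of R))) (b : AlgGrp.Action (SekSuwa.GK R lam (p ^ n) h) Q),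
      NonAbH1.IsTorsorFor Scheme.fppfPrecoverage b ∧ Nonempty (NonAbH1.EquivIso a (b.bc f)) := by
  obtain ⟨r, y, hy, heq⟩ := exists_classify (p ^ n) Q' b' hQ'
  obtain ⟨s, c, hs⟩ := exists_root_of_torsor p n h P a hP Q' b' θ hθ r y hy heq
  obtain ⟨Q, b, hb, ψ, hψ⟩ := exists_lift_torsor h Q' b' hQ' r y hy heq s c hs
  refine ⟨Q, b, hb, ?_⟩
  obtain ⟨⟨hfinK, hflatK, -⟩, -⟩ := S14694.result R lam (p ^ n) (Nat.pos_of_ne_zero (NeZero.ne _)) h
  haveI : IsFinite (Red.bc f (SekSuwa.GK R lam (p ^ n) h)).hom := by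
    show IsFinite (pullback.snd _ _)
    exact MorphismProperty.pullback_snd _ _ hfinK
  haveI : Flat (Red.bc f (SekSuwa.GK R lam (p ^ n) h)).hom := by
    show Flat (pullback.snd _ _)
    exact MorphismProperty.pullback_snd _ _ hflatK
  -- the open where `λ` is invertible
  let U : X.Opens := X.basicOpen (fn (A := R) f lam)
  have hne : fn (A := R) f lam ≠ 0 := fun h0 =>
    one_ne_zero (eq_zero_of_mul (nonZeroDivisors.ne_zero h.nzd) f (1 : Γ(X, ⊤)) (by rw [h0, zero_mul]))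
  haveI : Nonempty U := by
    have : (U : Set X).Nonempty := by
      rw [Set.nonempty_iff_ne_empty]
      intro he
      exact hne ((basicOpen_eq_bot_iff _).1 (SetLike.coe_injective he))
    exact this.to_subtype
  have hlU : IsUnit (fn (A := R) (U.ι ≫ f) lam) := by
    have h1 : (U : Scheme.{u}).basicOpen (U.ι.appTop (fn (A := R) f lam)) = ⊤ := by
      rw [← Scheme.preimage_basicOpen_top, Scheme.Opens.ι_preimage_self]
    rw [fn_comp]
    refine RingedSpace.isUnit_of_isUnit_germ (U : Scheme.{u}).toRingedSpace ⊤ _ fun x hx => ?_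
    exact ((U : Scheme.{u}).mem_basicOpen _ x hx).1 (by rw [h1]; trivial)
  let αX := (Over.pullback f).map (SekSuwa.alphaN R lam (p ^ n) h)
  haveI hαU : IsIso ((Over.pullback U.ι).map αX) := by
    haveI := isIso_pullback_alphaN (h := h) (U.ι ≫ f) hlU
    exact (NatIso.isIso_map_iff (Over.pullbackComp U.ι f) (SekSuwa.alphaN R lam (p ^ n) h)).1 this
  haveI : IsIso ((Over.pullback U.ι).map θ) :=
    isIso_pullback_of_push U.ι αX hαU hP (NonAbH1.isPseudoTorsorSch_bc f hQ'.1) θ hθ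
  let ψX := (Over.pullback f).map ψ
  have hψX := push_bc f (SekSuwa.alphaN R lam (p ^ n) h) ψ hψ
  haveI : IsIso ((Over.pullback U.ι).map ψX) :=
    isIso_pullback_of_push U.ι αX hαU (NonAbH1.isTorsorFor_bc f _ hb) (NonAbH1.isPseudoTorsorSch_bc f hQ'.1) ψX hψX
  let e := asIso ((Over.pullback U.ι).map θ) ≪≫ (asIso ((Over.pullback U.ι).map ψX)).symm
  refine FinSect.exists_iso_of_restrict hX a (b.bc f) hP (NonAbH1.isTorsorFor_bc f _ hb) U ⟨e, ?_⟩
  have h1 := push_bc U.ι αX θ hθ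
  have h2 := push_bc U.ι αX ψX hψX
  rw [← cancel_mono ((Over.pullback U.ι).map ψX)]
  simp only [e, Iso.trans_hom, asIso_hom, Iso.symm_hom, asIso_inv, Category.assoc, IsIso.inv_hom_id,
    Category.comp_id]
  rw [h1, h2, ← Category.assoc (_ ◁ _), comp_lift, whiskerLeft_fst_assoc, whiskerLeft_snd_assoc]
  simp only [Category.assoc, IsIso.inv_hom_id, Category.comp_id]

end Main

end Groth.Agent.SekTriv
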