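import Groth.Agent.SekTriv.Finite
import Groth.Agent.Torsor.Pushforward
import Groth.Prelude.Def_ActBC

/-!
Coordinates on torsors whose push-forward to `G^(λ)` is Zariski locally trivial, and descent of functions.
-/

set_option autoImplicit false
set_option linter.style.haveILetI false
set_option synthInstance.maxHeartbeats 400000
set_option maxHeartbeats 800000

universe u

noncomputable section

open CategoryTheory Limits MonoidalCategory CartesianMonoidalCategory MonObj AlgebraicGeometry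

namespace Groth.Agent.SekTriv

open Groth.Agent.SekTorsor (fn fn_comp fn_SpecMap fn_toSpecΓ fn_ext scal scal_comp bfn bfn_comp bfn_mul isUnit_bfn rfn
  rfn_comp rfn_mul bfn_eq_rfn)
open Groth.Agent.Torsor (smul)

section Fun

variable {R : Type u} [CommRing R]

theorem fn_eq_comp {A : Type u} [CommRing A] {T T' : Scheme.{u}} (h : T' ⟶ T) (g : T ⟶ Spec (CommRingCat.of A)) :
    fn (h ≫ g) = h.appTop.hom.comp (fn g) := RingHom.ext fun r => fn_comp h g r

/-- Functions descend along faithfully flat quasi-compact morphisms. -/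
theorem exists_desc_fun {L B : Scheme.{u}} (π : L ⟶ B) [Flat π] [Surjective π] [QuasiCompact π] (F : Γ(L, ⊤))
    (h : ∀ {Z : Scheme.{u}} (g₁ g₂ : Z ⟶ L), g₁ ≫ π = g₂ ≫ π → g₁.appTop F = g₂.appTop F) :
    ∃ F₀ : Γ(B, ⊤), π.appTop F₀ = F := by
  let A := Polynomial (ULift.{u} ℤ)
  let m : L ⟶ Spec (CommRingCat.of A) :=
    L.toSpecΓ ≫ Spec.map (CommRingCat.ofHom (Polynomial.eval₂RingHom
      ((Int.castRingHom Γ(L, ⊤)).comp ULift.ringEquiv.toRingHom) F))
  have hm : fn m Polynomial.X = F := by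
    show fn (_ ≫ _) _ = F
    rw [fn_toSpecΓ]
    exact Polynomial.eval₂_X _ _
  have hdesc : ∀ {Z : Scheme.{u}} (g₁ g₂ : Z ⟶ L), g₁ ≫ π = g₂ ≫ π → g₁ ≫ m = g₂ ≫ m := by
    intro Z g₁ g₂ hg
    refine fn_ext (Polynomial.ringHom_ext (fun n => ?_) ?_)
    · exact RingHom.congr_fun ((RingHom.ext_int (((fn (g₁ ≫ m)).comp Polynomial.C).comp
        ULift.ringEquiv.symm.toRingHom) (((fn (g₂ ≫ m)).comp Polynomial.C).comp ULift.ringEquiv.symm.toRingHom))) n.down
    · rw [fn_comp g₁ m, fn_comp g₂ m, hm]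
      exact h g₁ g₂ hg
  refine ⟨fn (EffectiveEpi.desc π m fun g₁ g₂ hg => hdesc g₁ g₂ hg) Polynomial.X, ?_⟩
  rw [← fn_comp, EffectiveEpi.fac, hm]

theorem appTop_injective {L B : Scheme.{u}} (π : L ⟶ B) [Flat π] [Surjective π] [QuasiCompact π] :
    Function.Injective π.appTop.hom := by
  intro x y hxy
  let A := Polynomial (ULift.{u} ℤ)
  let m (x : Γ(B, ⊤)) : B ⟶ Spec (CommRingCat.of A) :=
    B.toSpecΓ ≫ Spec.map (CommRingCat.ofHom (Polynomial.eval₂RingHom
      ((Int.castRingHom Γ(B, ⊤)).comp ULift.ringEquiv.toRingHom) x))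
  have hm : ∀ x, fn (m x) Polynomial.X = x := fun x => by
    show fn (_ ≫ _) _ = x
    rw [fn_toSpecΓ]
    exact Polynomial.eval₂_X _ _
  have : m x = m y := by
    rw [← cancel_epi π]
    refine fn_ext (Polynomial.ringHom_ext (fun n => ?_) ?_)
    · exact RingHom.congr_fun ((RingHom.ext_int (((fn (π ≫ m x)).comp Polynomial.C).comp
        ULift.ringEquiv.symm.toRingHom) (((fn (π ≫ m y)).comp Polynomial.C).comp ULift.ringEquiv.symm.toRingHom))) n.down
    · rw [fn_comp π (m x), fn_comp π (m y), hm, hm]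
      exact hxy
  exact (hm x).symm.trans ((congrArg (fun k => fn k Polynomial.X) this).trans (hm y))

/-- Units descend along faithfully flat quasi-compact morphisms. -/
theorem exists_desc_unit {L B : Scheme.{u}} (π : L ⟶ B) [Flat π] [Surjective π] [QuasiCompact π] (F : Γ(L, ⊤)ˣ)
    (h : ∀ {Z : Scheme.{u}} (g₁ g₂ : Z ⟶ L), g₁ ≫ π = g₂ ≫ π → g₁.appTop (F : Γ(L, ⊤)) = g₂.appTop (F : Γ(L, ⊤))) :
    ∃ F₀ : Γ(B, ⊤)ˣ, π.appTop (F₀ : Γ(B, ⊤)) = F := by
  obtain ⟨a, ha⟩ := exists_desc_fun π (F : Γ(L, ⊤)) h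
  obtain ⟨b, hb⟩ := exists_desc_fun π ((F⁻¹ : Γ(L, ⊤)ˣ) : Γ(L, ⊤)) fun {Z} g₁ g₂ hg => by
    have e := h g₁ g₂ hg
    have h1 : g₁.appTop ((F⁻¹ : Γ(L, ⊤)ˣ) : Γ(L, ⊤)) * g₁.appTop (F : Γ(L, ⊤)) = 1 := by
      rw [← map_mul, Units.inv_mul, map_one]
    have h2 : g₁.appTop (F : Γ(L, ⊤)) * g₂.appTop ((F⁻¹ : Γ(L, ⊤)ˣ) : Γ(L, ⊤)) = 1 := by
      rw [e, ← map_mul, Units.mul_inv, map_one]
    exact left_inv_eq_right_inv h1 h2
  have hab : a * b = 1 := appTop_injective π (by rw [map_mul, ha, hb, Units.mul_inv, map_one])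
  exact ⟨Units.mkOfMulEqOne a b hab, ha⟩

end Fun

section Coord

variable {R : Type u} [CommRing R] {lam : R} {X : Scheme.{u}} {f : X ⟶ Spec (CommRingCat.of R)}
  {K : Over (Spec (CommRingCat.of R))} [GrpObj K] [IsAffineHom K.hom]

/-- A point over the base as a point of the base change. -/
abbrev up {W : Over X} {Y : Over (Spec (CommRingCat.of R))} (g : (Over.map f).obj W ⟶ Y) : W ⟶ Red.bc f Y :=
  (Over.mapPullbackAdj f).homEquiv W Y g

/-- The coordinate of a point over the base ring, as a function on the given scheme. -/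
def pfn {W : Over X} (g : (Over.map f).obj W ⟶ SekSuwa.G R lam) : Γ(W.left, ⊤) := rfn g

theorem exists_coord (u : K ⟶ SekSuwa.G R lam) [IsMonHom u] {P : Over X} (a : AlgGrp.Action (Red.bc f K) P)
    (hP : NonAbH1.IsTorsorFor Scheme.fppfPrecoverage a) (s : X) :
    ∃ V : X.Opens, s ∈ V ∧ IsAffineOpen V ∧ ∃ b : Γ((Over.mk V.ι ⊗ P).left, ⊤),
      IsUnit (1 + scal f (Over.mk V.ι ⊗ P) lam * b) ∧
      ∀ (W : Over X) (v : W ⟶ Over.mk V.ι) (g : (Over.map f).obj W ⟶ K) (x : W ⟶ P),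
        (lift v (smul a (up g) x)).left.appTop b =
          pfn (g ≫ u) + (lift v x).left.appTop b +
            scal f W lam * pfn (g ≫ u) * (lift v x).left.appTop b := by
  haveI := SekTorsor.isAffineHom_bc (lam := lam) f
  haveI := SekTorsor.flat_bc (lam := lam) f
  haveI : IsAffineHom (Red.bc f K).hom := by
    show IsAffineHom (pullback.snd _ _)
    exact MorphismProperty.pullback_snd _ _ inferInstance
  obtain ⟨T, aT, hT, φ, hφ⟩ := Torsor.Push.exists_pushforward (a := a) ((Over.pullback f).map u)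
    (FinSect.fpqc_of_fppf hP)
  obtain ⟨_, _⟩ := S6004.result (Red.bc f (SekSuwa.G R lam)) T aT hT
  haveI : Surjective T.hom := Torsor.surjective_of_isTorsorFor hT
  obtain ⟨D, j, hj, hsj, y, hy⟩ := SekTorsor.exists_local_section aT hT.1 s
  obtain ⟨_, ⟨V, hV, rfl⟩, hsV, hVj⟩ := X.isBasis_affineOpens.exists_subset_of_mem_open
    (show s ∈ (j.opensRange : Set X) from hsj) j.opensRange.2
  have hr : Set.range (Scheme.Opens.ι V) ⊆ Set.range j := by rw [Scheme.Opens.range_ι]; exact hVj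
  let W₀ : Over X := Over.mk (Scheme.Opens.ι V)
  let σ : W₀ ⟶ T := Over.homMk (IsOpenImmersion.lift j (Scheme.Opens.ι V) hr ≫ y) (by
    show (_ ≫ y) ≫ T.hom = Scheme.Opens.ι V
    rw [Category.assoc, hy, IsOpenImmersion.lift_fac])
  obtain ⟨d, hd, -⟩ := (Torsor.isPseudoTorsor_iff aT).1 hT.1 (W₀ ⊗ P) (fst W₀ P ≫ σ) (snd W₀ P ≫ φ)
  refine ⟨V, hsV, hV, bfn d, isUnit_bfn d, fun W v g x => ?_⟩
  rw [← bfn_comp, ← bfn_comp]
  have hl : ∀ (v' : W ⟶ W₀) (z : W ⟶ P), smul aT (lift v' z ≫ d) (v' ≫ σ) = z ≫ φ := fun v' z => by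
    have := congrArg (lift v' z ≫ ·) hd
    simp only [Torsor.comp_smul, lift_fst_assoc, lift_snd_assoc] at this
    exact this
  have hφ' : smul a (up g) x ≫ φ = smul aT (up g ≫ (Over.pullback f).map u) (x ≫ φ) := by
    show (lift (up g) x ≫ a.act) ≫ φ = lift _ _ ≫ aT.act
    rw [Category.assoc, hφ, ← Category.assoc, comp_lift, lift_fst_assoc, lift_snd_assoc]
  have key : lift v (smul a (up g) x) ≫ d = (up g ≫ (Over.pullback f).map u) * (lift v x ≫ d) :=
    ((Torsor.isPseudoTorsor_iff aT).1 hT.1 W (v ≫ σ) (smul a (up g) x ≫ φ)).unique (hl v _)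
      (by rw [Torsor.mul_smul, hl v x, hφ'])
  rw [key, bfn_mul]
  have e : bfn (up g ≫ (Over.pullback f).map u) = pfn (g ≫ u) := by
    rw [bfn_eq_rfn, (Over.mapPullbackAdj f).homEquiv_naturality_right_symm, Equiv.symm_apply_apply]
    rfl
  rw [e]

end Coord

end Groth.Agent.SekTriv
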